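import Cfsg.Agent.S1220
import Cfsg.Agent.S1224
import Cfsg.Agent.RootSub.SL2

/-!
A subgroup of the two-dimensional special linear group of characteristic two with at least four lower and two upper
unitriangular elements: their parameters are inverse lines over one subfield.
-/

set_option autoImplicit false
set_option linter.unusedSectionVars false
set_option linter.style.haveILetI false

namespace Cfsg.Lib.MitchellThree.Residual.Even

open Matrix Cfsg.Lib.RootSub
open scoped MatrixGroups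

universe u

variable {F : Type u} [Field F]

theorem sl_entries {g h : SL(2, F)} (e00 : g.1 0 0 = h.1 0 0) (e01 : g.1 0 1 = h.1 0 1) (e10 : g.1 1 0 = h.1 1 0)
    (e11 : g.1 1 1 = h.1 1 1) : g = h :=
  Subtype.ext (by ext i j; fin_cases i <;> fin_cases j <;> assumption)

theorem det_two (g : SL(2, F)) : g.1 0 0 * g.1 1 1 - g.1 0 1 * g.1 1 0 = 1 := by
  have := g.2
  rwa [Matrix.det_fin_two] at this

theorem lower_mul (g : SL(2, F)) (c : F) :
    (g * loEl c).1 0 0 = g.1 0 0 + g.1 0 1 * c ∧ (g * loEl c).1 0 1 = g.1 0 1 := by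
  simp [Matrix.SpecialLinearGroup.coe_mul, Matrix.mul_apply, Fin.sum_univ_two, loEl_coe]

theorem mul_lower (g : SL(2, F)) (c : F) :
    (loEl c * g).1 0 0 = g.1 0 0 ∧ (loEl c * g).1 0 1 = g.1 0 1 ∧ (loEl c * g).1 1 0 = c * g.1 0 0 + g.1 1 0 ∧
      (loEl c * g).1 1 1 = c * g.1 0 1 + g.1 1 1 := by
  simp [Matrix.SpecialLinearGroup.coe_mul, Matrix.mul_apply, Fin.sum_univ_two, loEl_coe]

theorem loEl_zero : loEl (0 : F) = 1 := sl_entries (by simp [loEl_coe]) (by simp [loEl_coe]) (by simp [loEl_coe])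
  (by simp [loEl_coe])

theorem loEl_inj {s t : F} (h : loEl s = loEl t) : s = t := by
  have := congrArg (fun g : SL(2, F) => g.1 1 0) h
  simpa [loEl_coe] using this

/-- Lower triangular. -/
def lowerTri : Subgroup SL(2, F) where
  carrier := {g | g.1 0 1 = 0}
  mul_mem' {a b} (ha : a.1 0 1 = 0) (hb : b.1 0 1 = 0) := by
    simp [Matrix.SpecialLinearGroup.coe_mul, Matrix.mul_apply, Fin.sum_univ_two, ha, hb]
  one_mem' := by simp
  inv_mem' {a} (ha : a.1 0 1 = 0) := by
    simp [Matrix.SpecialLinearGroup.coe_inv, Matrix.adjugate_fin_two, ha]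

theorem mem_lowerTri {g : SL(2, F)} : g ∈ lowerTri ↔ g.1 0 1 = 0 := Iff.rfl

variable [CharP F 2]

theorem sub_eq (a b : F) : a - b = a + b := CharTwo.sub_eq_add a b

theorem trace_zero {i : SL(2, F)} (hi : i * i = 1) : i.1 1 1 = i.1 0 0 := by
  by_contra hne
  have h00 := congrArg (fun g : SL(2, F) => g.1 0 0) hi
  have h01 := congrArg (fun g : SL(2, F) => g.1 0 1) hi
  simp [Matrix.SpecialLinearGroup.coe_mul, Matrix.mul_apply, Fin.sum_univ_two] at h00 h01
  have hd := det_two i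
  have hs : i.1 0 0 + i.1 1 1 ≠ 0 := fun e => hne (CharTwo.add_eq_zero.1 e).symm
  have h1 : i.1 0 1 = 0 := (mul_eq_zero.1 (by linear_combination h01 : i.1 0 1 * (i.1 0 0 + i.1 1 1) = 0)).resolve_right hs
  rw [h1, zero_mul, add_zero] at h00
  rw [h1, zero_mul, sub_zero] at hd
  refine hne (mul_left_cancel₀ (left_ne_zero_of_mul_eq_one hd) (hd.trans h00.symm))

theorem lower_involution {i : SL(2, F)} (hi : i * i = 1) (hl : i ∈ lowerTri) : i = loEl (i.1 1 0) := by
  rw [mem_lowerTri] at hl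
  have hd := det_two i
  rw [hl, zero_mul, sub_zero, trace_zero hi, ← pow_two] at hd
  replace hd := CharTwo.sq_inj.1 (hd.trans (one_pow 2).symm)
  exact sl_entries (by simp [loEl_coe, hd]) (by simp [loEl_coe, hl]) (by simp [loEl_coe])
    (by simp [loEl_coe, trace_zero hi, hd])

theorem loEl_sq (c : F) : loEl c * loEl c = 1 := by rw [loEl_mul, CharTwo.add_self_eq_zero, loEl_zero]

theorem commute_loEl {g : SL(2, F)} {c : F} (hc : c ≠ 0) (h : g * loEl c = loEl c * g) : g ∈ lowerTri := by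
  have := congrArg (fun x : SL(2, F) => x.1 0 0) h
  simp only [(lower_mul g c).1, (mul_lower g c).1] at this
  exact (mul_eq_zero.1 (add_left_cancel (this.trans (add_zero _).symm))).resolve_right hc

/-- An involution outside the triangular group is conjugate to every one inside. -/
theorem conj_outside [Finite F] {G : Subgroup SL(2, F)} {c : F} (hc : c ≠ 0) (hs : loEl c ∈ G) {w : SL(2, F)}
    (hw : w ∈ G) (hw2 : w * w = 1) (hwl : w ∉ lowerTri) : ∃ x ∈ G, x * loEl c * x⁻¹ = w := by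
  set s := loEl c with hsdef
  have hss : s * s = 1 := loEl_sq c
  have hws : w⁻¹ = w := inv_eq_of_mul_eq_one_right hw2
  have hsi : s⁻¹ = s := inv_eq_of_mul_eq_one_right hss
  set d := s * w with hd
  have hds : s * d * s = d⁻¹ := by rw [hd, ← mul_assoc, hss, one_mul, _root_.mul_inv_rev, hws, hsi]
  have hpow : ∀ j : ℕ, s * d ^ j * s = (d ^ j)⁻¹ := by
    intro j
    induction j with
    | zero => simp [hss]
    | succ j ih =>
      calc s * d ^ (j + 1) * s = (s * d ^ j * s) * (s * d * s) := by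
            rw [pow_succ]; simp only [← mul_assoc]; rw [mul_assoc _ s s, hss, mul_one]
        _ = _ := by rw [ih, hds, ← _root_.mul_inv_rev, ← pow_succ']
  rcases Nat.even_or_odd (orderOf d) with ⟨m, hm⟩ | ⟨m, hm⟩
  · exfalso
    set z := d ^ m with hz
    have hn : 0 < orderOf d := orderOf_pos d
    have hz2 : z * z = 1 := by rw [hz, ← pow_add, ← hm, pow_orderOf_eq_one]
    have hz1 : z ≠ 1 := pow_ne_one_of_lt_orderOf (by omega) (by omega)
    have hsz : z * s = s * z := by
      have h := hpow m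
      rw [← hz, inv_eq_of_mul_eq_one_right hz2] at h
      calc z * s = s * z * s * s := by rw [h]
        _ = s * z := by rw [mul_assoc, hss, mul_one]
    have hzl := lower_involution hz2 (commute_loEl hc hsz)
    set e := z.1 1 0
    have he : e ≠ 0 := fun e0 => hz1 (by rw [hzl, e0, loEl_zero])
    refine hwl (commute_loEl he ?_)
    rw [← hzl]
    have hdz : Commute d z := (Commute.refl d).pow_right m
    calc w * z = s * (d * z) := by rw [hd, ← mul_assoc, ← mul_assoc, hss, one_mul]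
      _ = s * z * d := by rw [hdz.eq, mul_assoc]
      _ = z * w := by rw [← hsz, mul_assoc, hd, ← mul_assoc s s w, hss, one_mul]
  · refine ⟨d ^ m, G.pow_mem (G.mul_mem hs hw) m, ?_⟩
    have h2 : d ^ m * d ^ m * d = 1 := by rw [← pow_add, ← pow_succ, show m + m + 1 = orderOf d by omega, pow_orderOf_eq_one]
    have h3 : (d ^ m)⁻¹ = s * d ^ m * s := (hpow m).symm
    calc d ^ m * s * (d ^ m)⁻¹ = d ^ m * (s * s) * d ^ m * s := by rw [h3]; simp only [mul_assoc]
      _ = d⁻¹ * s := by rw [hss, mul_one, eq_inv_of_mul_eq_one_left h2]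
      _ = w := by rw [hd, _root_.mul_inv_rev, hws, hsi, mul_assoc, hss, mul_one]

theorem quaternion_sq {n : ℕ} [NeZero n] (x : QuaternionGroup n) (h : x * x = 1) :
    x = 1 ∨ x = QuaternionGroup.a (n : ZMod (2 * n)) := by
  have hpos : 0 < n := Nat.pos_of_ne_zero (NeZero.ne n)
  haveI : NeZero (2 * n) := ⟨by omega⟩
  cases x with
  | a i =>
    rw [QuaternionGroup.a_mul_a, QuaternionGroup.one_def, QuaternionGroup.a.injEq] at h
    have h' : ((i.val + i.val : ℕ) : ZMod (2 * n)) = 0 := by push_cast; rw [ZMod.natCast_zmod_val]; exact h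
    obtain ⟨t, ht⟩ := (CharP.cast_eq_zero_iff (ZMod (2 * n)) (2 * n) _).1 h'
    have hlt := i.val_lt
    have : t = 0 ∨ t = 1 := by
      by_contra hc; push Not at hc
      have : 2 * n * 2 ≤ 2 * n * t := Nat.mul_le_mul_left _ (by omega)
      omega
    rw [QuaternionGroup.one_def, QuaternionGroup.a.injEq, QuaternionGroup.a.injEq]
    rcases this with rfl | rfl
    · left; rw [← ZMod.natCast_zmod_val i, show i.val = 0 by omega, Nat.cast_zero]
    · right; rw [← ZMod.natCast_zmod_val i, show i.val = n by omega]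
  | xa i =>
    rw [QuaternionGroup.xa_mul_xa, QuaternionGroup.one_def, QuaternionGroup.a.injEq] at h
    have h' : ((n : ℕ) : ZMod (2 * n)) = 0 := by linear_combination h
    obtain ⟨t, ht⟩ := (CharP.cast_eq_zero_iff (ZMod (2 * n)) (2 * n) _).1 h'
    rcases Nat.eq_zero_or_pos t with rfl | htp
    · omega
    · have : 2 * n * 1 ≤ 2 * n * t := Nat.mul_le_mul_left _ htp
      omega

set_option maxHeartbeats 1600000 in
/-- Two sorts of unipotent parameters are inverse lines over one subfield. -/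
theorem lines_of_pair [Finite F] (G : Subgroup SL(2, F)) {a b : F} (ha : loEl a ∈ G) (hb : loEl b ∈ G)
    (ha0 : a ≠ 0) (hb0 : b ≠ 0) (hab : a ≠ b) {ρ : F} (hρ : upEl ρ ∈ G) (hρ0 : ρ ≠ 0) :
    ∃ (k : Subfield F) (μ : F), μ ≠ 0 ∧ (∀ c, loEl c ∈ G ↔ c / μ ∈ k) ∧ (∀ c, upEl c ∈ G ↔ c * μ ∈ k) := by
  classical
  haveI : Fintype F := Fintype.ofFinite F
  have hup : ∀ {c : F}, c ≠ 0 → upEl c ∉ lowerTri (F := F) := fun {c} hc h => hc (by
    simpa [mem_lowerTri, upEl_coe] using h)
  have hupsq : ∀ c : F, upEl c * upEl c = 1 := fun c => by rw [upEl_mul, CharTwo.add_self_eq_zero, upEl_zero]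
  -- ratios of two lower parameters preserve the lower set
  have ratio : ∀ {s t : F}, loEl s ∈ G → loEl t ∈ G → s ≠ 0 → t ≠ 0 → ∀ c, loEl c ∈ G → loEl (t / s * c) ∈ G := by
    intro s t hs ht hs0 ht0 c hc
    obtain ⟨x, hx, hxe⟩ := conj_outside hs0 hs hρ (hupsq ρ) (hup hρ0)
    obtain ⟨y, hy, hye⟩ := conj_outside ht0 ht hρ (hupsq ρ) (hup hρ0)
    have hg : y⁻¹ * x * loEl s = loEl t * (y⁻¹ * x) := by
      calc y⁻¹ * x * loEl s = y⁻¹ * (x * loEl s * x⁻¹) * x := by group
        _ = y⁻¹ * (y * loEl t * y⁻¹) * x := by rw [hxe, hye]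
        _ = loEl t * (y⁻¹ * x) := by group
    set g := y⁻¹ * x
    have hgG : g ∈ G := mul_mem (inv_mem hy) hx
    have h01 : g.1 0 1 = 0 := by
      have := congrArg (fun z : SL(2, F) => z.1 0 0) hg
      simp only [(lower_mul g s).1, (mul_lower g t).1] at this
      exact (mul_eq_zero.1 (add_left_cancel (this.trans (add_zero _).symm))).resolve_right hs0
    have key : ∀ e e' : F, g.1 1 1 * e = e' * g.1 0 0 → g * loEl e = loEl e' * g := fun e e' he =>
      sl_entries (by rw [(lower_mul g e).1, (mul_lower g e').1, h01, zero_mul, add_zero])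
        (by rw [(lower_mul g e).2, (mul_lower g e').2.1])
        (by rw [(mul_lower g e').2.2.1]
            simp [Matrix.SpecialLinearGroup.coe_mul, Matrix.mul_apply, Fin.sum_univ_two, loEl_coe]
            linear_combination he)
        (by rw [(mul_lower g e').2.2.2, h01, mul_zero, zero_add]
            simp [Matrix.SpecialLinearGroup.coe_mul, Matrix.mul_apply, Fin.sum_univ_two, loEl_coe])
    have hr : g.1 1 1 * s = t * g.1 0 0 := by
      have := congrArg (fun z : SL(2, F) => z.1 1 0) hg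
      simp [(mul_lower g t).2.2.1, Matrix.SpecialLinearGroup.coe_mul, Matrix.mul_apply, Fin.sum_univ_two, loEl_coe]
        at this
      linear_combination this
    have := key c (t / s * c) (by field_simp; linear_combination c * hr)
    rw [eq_mul_inv_iff_mul_eq.2 this.symm]
    exact mul_mem (mul_mem hgG hc) (inv_mem hgG)
  have hadd : ∀ {u v : F}, loEl u ∈ G → loEl v ∈ G → loEl (u + v) ∈ G := fun hu hv => by
    rw [← loEl_mul]; exact mul_mem hu hv
  let k : Subfield F :=
    { carrier := {r | ∀ c, loEl c ∈ G → loEl (r * c) ∈ G}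
      mul_mem' := fun {r r'} hr hr' c hc => by rw [mul_assoc]; exact hr _ (hr' c hc)
      one_mem' := fun c hc => by rwa [one_mul]
      add_mem' := fun {r r'} hr hr' c hc => by rw [add_mul]; exact hadd (hr c hc) (hr' c hc)
      zero_mem' := fun c _ => by rw [zero_mul, loEl_zero]; exact one_mem G
      neg_mem' := fun {r} hr c hc => by rw [CharTwo.neg_eq]; exact hr c hc
      inv_mem' := fun r hr => by
        rcases eq_or_ne r 0 with rfl | hr0
        · rw [_root_.inv_zero]; exact hr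
        have hpow : ∀ n : ℕ, ∀ c, loEl c ∈ G → loEl (r ^ n * c) ∈ G := fun n => by
          induction n with
          | zero => intro c hc; rwa [pow_zero, one_mul]
          | succ n ih => intro c hc; rw [pow_succ, mul_assoc]; exact ih _ (hr c hc)
        have h1 := Fintype.one_lt_card (α := F)
        have : r⁻¹ = r ^ (Fintype.card F - 2) := by
          refine inv_eq_of_mul_eq_one_right ?_
          rw [← pow_succ', show Fintype.card F - 2 + 1 = Fintype.card F - 1 by omega,
            FiniteField.pow_card_sub_one_eq_one r hr0]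
        rw [this]; exact hpow _ }
  have hk : ∀ c, loEl c ∈ G ↔ c / a ∈ k := fun c => by
    refine ⟨fun hc => ?_, fun hc => by simpa [div_mul_cancel₀ c ha0] using hc a ha⟩
    rcases eq_or_ne c 0 with rfl | hc0
    · rw [zero_div]; exact k.zero_mem
    · exact ratio ha hc ha0 hc0
  refine ⟨k, a, ha0, hk, ?_⟩
  -- the strongly embedded subgroup
  set H : Subgroup G := lowerTri.subgroupOf G with hH
  have hHmem : ∀ {g : G}, g ∈ H ↔ g.1.1 0 1 = 0 := fun {g} => Iff.rfl
  have hinv : ∀ {i : G}, orderOf i = 2 ↔ (i.1 : SL(2, F)) * i.1 = 1 ∧ i ≠ 1 := fun {i} => by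
    rw [orderOf_eq_prime_iff (p := 2) (hp := ⟨Nat.prime_two⟩), pow_two]
    exact and_congr_left' Subtype.ext_iff
  have hHi : ∀ {i : G}, orderOf i = 2 ∧ i ∈ H → ∃ c, c ≠ 0 ∧ (i.1 : SL(2, F)) = loEl c := fun {i} h => by
    obtain ⟨h1, h2⟩ := hinv.1 h.1
    refine ⟨_, fun e => h2 (Subtype.ext ?_), lower_involution h1 h.2⟩
    rw [lower_involution h1 h.2, e, loEl_zero]; rfl
  have hse : Cfsg.IsStronglyEmbedded H := by
    refine ⟨fun e => hup hρ0 (show (⟨upEl ρ, hρ⟩ : G) ∈ H by rw [e]; trivial), ?_, fun g hg => ?_⟩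
    · refine even_iff_two_dvd.2 ?_
      have h2 : orderOf (⟨⟨loEl a, ha⟩, by rw [hHmem]; simp [loEl_coe]⟩ : H) = 2 := by
        rw [← Subgroup.orderOf_coe, hinv]
        exact ⟨loEl_sq a, fun e => ha0 (loEl_inj ((congrArg Subtype.val e).trans loEl_zero.symm))⟩
      have h3 := orderOf_dvd_natCard (⟨⟨loEl a, ha⟩, by rw [hHmem]; simp [loEl_coe]⟩ : H)
      exact (congrArg (fun n : ℕ => n ∣ Nat.card H) h2).mp h3
    · rw [← Nat.not_even_iff_odd, even_iff_two_dvd]
      intro hd
      obtain ⟨⟨i, hi1, hi2⟩, hi⟩ := exists_prime_orderOf_dvd_card' (hp := ⟨Nat.prime_two⟩) 2 hd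
      obtain ⟨j, hj, hje⟩ := hi2
      have hi' : orderOf i = 2 := (Subgroup.orderOf_coe _).trans hi
      have hj' : orderOf j = 2 := (((MulAut.conj g).orderOf_eq j).symm.trans (congrArg orderOf hje)).trans hi'
      obtain ⟨c, hc, hic⟩ := hHi ⟨hi', hi1⟩
      obtain ⟨c', hc', hjc⟩ := hHi ⟨hj', hj⟩
      refine hg (hHmem.2 ?_)
      have he : (g : SL(2, F)) * loEl c' = loEl c * g := by
        rw [← hic, ← hjc, ← hje]
        show (g : SL(2, F)) * j = g * j * (g : SL(2, F))⁻¹ * g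
        rw [inv_mul_cancel_right]
      have := congrArg (fun z : SL(2, F) => z.1 0 0) he
      simp only [(lower_mul (g : SL(2, F)) c').1, (mul_lower (g : SL(2, F)) c).1] at this
      exact (mul_eq_zero.1 (add_left_cancel (this.trans (add_zero _).symm))).resolve_right hc'
  have htr : ∀ g₁ g₂ : G, g₁ ∉ H → g₂ ∉ H → ∃ h ∈ H, g₂⁻¹ * (h * g₁) ∈ H := by
    rcases Cfsg.Agent.S1220.result H hse with h | ⟨h, -⟩
    · exact h
    exfalso
    let V : Subgroup G :=
      { carrier := {g | ∃ c, (g.1 : SL(2, F)) = loEl c}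
        mul_mem' := fun ⟨c, hc⟩ ⟨d, hd⟩ => ⟨c + d, by rw [Subgroup.coe_mul, hc, hd, loEl_mul]⟩
        one_mem' := ⟨0, loEl_zero.symm⟩
        inv_mem' := fun {g} ⟨c, hc⟩ => ⟨c, by rw [Subgroup.coe_inv, hc, inv_eq_of_mul_eq_one_right (loEl_sq c)]⟩ }
    have hV : IsPGroup 2 V := fun g => ⟨1, by
      obtain ⟨c, hc⟩ := g.2
      refine Subtype.ext (Subtype.ext ?_)
      simp only [pow_one, pow_two, Subgroup.coe_mul, Subgroup.coe_one, hc, loEl_sq]⟩
    obtain ⟨S, hS⟩ := hV.exists_le_sylow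
    have key : ∀ {x y : S}, x * x = 1 → y * y = 1 → x ≠ 1 → y ≠ 1 → x = y := by
      rcases h S with hc | ⟨m, -, ⟨e⟩⟩
      · intro x y hx hy hx1 hy1
        by_contra hne
        haveI := Fintype.ofFinite S
        have h2 := IsCyclic.card_pow_eq_one_le (α := S) (n := 2) two_pos
        have hsub : ({1, x, y} : Finset S) ⊆ Finset.univ.filter fun z => z ^ 2 = 1 := by
          intro z hz
          simp only [Finset.mem_insert, Finset.mem_singleton] at hz
          rcases hz with rfl | rfl | rfl <;> simp [pow_two, hx, hy]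
        have h3 := (Finset.card_le_card hsub).trans h2
        rw [Finset.card_insert_of_notMem (by simp [Ne.symm hx1, Ne.symm hy1]),
          Finset.card_pair hne] at h3
        omega
      · intro x y hx hy hx1 hy1
        haveI : NeZero (2 ^ m) := ⟨by positivity⟩
        have hq := fun (z : S) (hz : z * z = 1) (hz1 : z ≠ 1) =>
          (quaternion_sq (e z) (by rw [← map_mul, hz, map_one])).resolve_left fun he => hz1 (e.map_eq_one_iff.1 he)
        exact e.injective ((hq x hx hx1).trans (hq y hy hy1).symm)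
    have hx : ∀ {c : F} (hc : loEl c ∈ G), (⟨loEl c, hc⟩ : G) ∈ (S : Subgroup G) := fun hc => hS ⟨_, rfl⟩
    have hne : ∀ {c : F} (hc : loEl c ∈ G), c ≠ 0 → (⟨⟨loEl c, hc⟩, hx hc⟩ : S) ≠ 1 := fun hc h0 e =>
      h0 (loEl_inj ((congrArg (fun z : S => ((z : G) : SL(2, F))) e).trans loEl_zero.symm))
    exact hab (loEl_inj (congrArg (fun z : S => ((z : G) : SL(2, F))) (key (x := ⟨⟨_, ha⟩, hx ha⟩)
      (y := ⟨⟨_, hb⟩, hx hb⟩) (Subtype.ext (Subtype.ext (loEl_sq a))) (Subtype.ext (Subtype.ext (loEl_sq b)))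
      (hne ha ha0) (hne hb hb0))))
  -- an element exchanging the two fixed lines
  obtain ⟨x, hx, hxe⟩ := conj_outside ha0 ha hρ (hupsq ρ) (hup hρ0)
  have hx11 : x.1 1 1 = 0 := by
    have h := congrArg (fun z : SL(2, F) => z.1 1 1) (mul_inv_eq_iff_eq_mul.1 hxe)
    have h0 := congrArg (fun z : SL(2, F) => z.1 1 0) (mul_inv_eq_iff_eq_mul.1 hxe)
    simp [Matrix.SpecialLinearGroup.coe_mul, Matrix.mul_apply, Fin.sum_univ_two, loEl_coe, upEl_coe] at h h0
    exact h0.resolve_right ha0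
  set g₁ : G := ⟨x, hx⟩
  have hg₁ : g₁ ∉ H := fun h => by
    have hd := det_two x
    rw [hx11, show x.1 0 1 = 0 from hHmem.1 h] at hd
    simp at hd
  have h1H : (QuotientGroup.mk (1 : G) : G ⧸ H) ≠ QuotientGroup.mk g₁ := fun e => hg₁ (by
    simpa using QuotientGroup.eq.1 e)
  have hcard := Cfsg.Agent.S1224.result H hse _ _ h1H
  -- the interchanging involutions are anti-diagonal
  have hswap : ∀ i : {i : G // orderOf i = 2 ∧ i • (QuotientGroup.mk (1 : G) : G ⧸ H) = QuotientGroup.mk g₁},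
      i.1.1.1 0 0 = 0 ∧ i.1.1.1 1 1 = 0 ∧ i.1.1.1 0 1 ≠ 0 := by
    intro ⟨i, hi, hie⟩
    rw [MulAction.Quotient.smul_mk, smul_eq_mul, mul_one, QuotientGroup.eq] at hie
    have he : (i.1 : SL(2, F)) * (i⁻¹ * g₁ : G).1 = x := by simp [g₁]
    have hlow : ((i⁻¹ * g₁ : G).1).1 0 1 = 0 := hHmem.1 hie
    have h11 := congrArg (fun z : SL(2, F) => z.1 1 1) he
    simp only [Matrix.SpecialLinearGroup.coe_mul, Matrix.mul_apply, Fin.sum_univ_two, hlow, mul_zero, zero_add,
      hx11] at h11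
    have hd := det_two (i⁻¹ * g₁ : G).1
    rw [hlow, zero_mul, sub_zero] at hd
    have hi11 : i.1.1 1 1 = 0 := (mul_eq_zero.1 h11).resolve_right (right_ne_zero_of_mul_eq_one hd)
    refine ⟨by rw [← trace_zero (hinv.1 hi).1, hi11], hi11, fun h0 => ?_⟩
    have hdi := det_two i.1
    rw [h0, hi11] at hdi
    simp at hdi
  have hdiag : ∀ r ∈ k, r ≠ 0 → ∃ d ∈ G, d.1 0 1 = 0 ∧ d.1 1 0 = 0 ∧ d.1 1 1 ^ 2 = r := by
    -- count the squares against the involutions of the triangular group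
    intro r hr hr0
    let I := {i : G // orderOf i = 2 ∧ i • (QuotientGroup.mk (1 : G) : G ⧸ H) = QuotientGroup.mk g₁}
    let J := {t : G // orderOf t = 2 ∧ t ∈ H}
    let K := {r : k // r ≠ 0}
    let jm : K → J := fun r => ⟨⟨loEl ((r.1 : F) * a), r.1.2 a ha⟩, hinv.2 ⟨loEl_sq _, fun e =>
      mul_ne_zero (fun e' => r.2 (Subtype.ext e')) ha0 (loEl_inj ((congrArg Subtype.val e).trans loEl_zero.symm))⟩,
      hHmem.2 (by simp [loEl_coe])⟩
    have hjm : Function.Injective jm := fun r r' e => Subtype.ext (Subtype.ext (mul_right_cancel₀ ha0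
      (loEl_inj (congrArg (fun z : J => z.1.1) e))))
    obtain ⟨i₀⟩ : Nonempty I := by
      by_contra hne
      rw [not_nonempty_iff] at hne
      haveI : Nonempty J := ⟨jm ⟨1, one_ne_zero⟩⟩
      have h0 : Nat.card J = 0 := hcard ▸ Nat.card_of_isEmpty
      exact Nat.card_pos.ne' h0
    have hd : ∀ i : I, ((i.1 * i₀.1 : G).1).1 0 1 = 0 ∧ ((i.1 * i₀.1 : G).1).1 1 0 = 0 ∧
        ((i.1 * i₀.1 : G).1).1 1 1 = i.1.1.1 1 0 * i₀.1.1.1 0 1 ∧
        ((i.1 * i₀.1 : G).1).1 0 0 = i.1.1.1 0 1 * i₀.1.1.1 1 0 := fun i => by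
      obtain ⟨a1, a2, -⟩ := hswap i
      obtain ⟨b1, b2, -⟩ := hswap i₀
      simp [Matrix.SpecialLinearGroup.coe_mul, Matrix.mul_apply, Fin.sum_univ_two, a1, a2, b1, b2]
    have hsq : ∀ i : I, ((i.1 * i₀.1 : G).1).1 1 1 ^ 2 ∈ k ∧ ((i.1 * i₀.1 : G).1).1 1 1 ^ 2 ≠ 0 := fun i => by
      obtain ⟨d1, d2, -, -⟩ := hd i
      set d := (i.1 * i₀.1 : G)
      have hdd := det_two d.1
      rw [d1, zero_mul, sub_zero] at hdd
      refine ⟨fun c hc => ?_, pow_ne_zero _ (right_ne_zero_of_mul_eq_one hdd)⟩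
      have : d.1 * loEl c = loEl (d.1.1 1 1 ^ 2 * c) * d.1 := by
        refine sl_entries ?_ ?_ ?_ ?_ <;>
          simp [Matrix.SpecialLinearGroup.coe_mul, Matrix.mul_apply, Fin.sum_univ_two, loEl_coe, d1, d2]
        linear_combination (-(d.1.1 1 1 * c)) * hdd
      rw [eq_mul_inv_iff_mul_eq.2 this.symm]
      exact mul_mem (mul_mem d.2 hc) (inv_mem d.2)
    let sq : I → K := fun i => ⟨⟨_, (hsq i).1⟩, fun e => (hsq i).2 (congrArg Subtype.val e)⟩
    have hinj : Function.Injective sq := fun i i' e => by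
      have e1 := CharTwo.sq_inj.1 (congrArg (fun z : K => (z.1 : F)) e)
      rw [(hd i).2.2.1, (hd i').2.2.1] at e1
      obtain ⟨b1, b2, b3⟩ := hswap i₀
      have e10 := mul_right_cancel₀ b3 e1
      obtain ⟨a1, a2, a3⟩ := hswap i
      obtain ⟨a1', a2', a3'⟩ := hswap i'
      refine Subtype.ext (Subtype.ext (sl_entries (a1.trans a1'.symm) ?_ e10 (a2.trans a2'.symm)))
      have h1 := det_two i.1.1
      have h2 := det_two i'.1.1
      rw [a1, a2, e10] at h1
      rw [a1', a2'] at h2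
      have hne : i'.1.1.1 1 0 ≠ 0 := fun e0 => by rw [e0] at h2; simp at h2
      exact mul_right_cancel₀ hne (by linear_combination h2 - h1)
    obtain ⟨-, hsur⟩ := (Nat.bijective_iff_injective_and_card sq).2 ⟨hinj, le_antisymm
      (Nat.card_le_card_of_injective sq hinj) ((Nat.card_le_card_of_injective jm hjm).trans_eq hcard.symm)⟩
    obtain ⟨i, hi⟩ := hsur ⟨⟨r, hr⟩, fun e => hr0 (congrArg Subtype.val e)⟩
    exact ⟨_, (i.1 * i₀.1).2, (hd i).1, (hd i).2.1, congrArg (fun z : K => (z.1 : F)) hi⟩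
  have hall : ∀ c, upEl c ∈ G → c * a ∈ k := by
    intro c hc
    rcases eq_or_ne c 0 with rfl | hc0
    · rw [zero_mul]; exact k.zero_mem
    obtain ⟨h, hh, hmem⟩ := htr g₁ ⟨upEl c, hc⟩ hg₁ (fun h => hup hc0 h)
    have hh' : h.1.1 0 1 = 0 := hHmem.1 hh
    set z := ((⟨upEl c, hc⟩ : G)⁻¹ * (h * g₁)).1
    have hz : z.1 0 1 = 0 := hHmem.1 hmem
    have he : h.1 * x = upEl c * z := by simp [z, g₁]
    have h01 := congrArg (fun y : SL(2, F) => y.1 0 1) he
    have h11 := congrArg (fun y : SL(2, F) => y.1 1 1) he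
    simp [Matrix.SpecialLinearGroup.coe_mul, Matrix.mul_apply, Fin.sum_univ_two, upEl_coe, hh', hx11, hz] at h01 h11
    have hd := det_two h.1
    rw [hh', zero_mul, sub_zero] at hd
    -- diagonal part of the triangular element
    have hμk : h.1.1 1 1 ^ 2 ∈ k := fun e he' => by
      have : (⟨_, h.2⟩ : G).1 * loEl e = loEl (h.1.1 1 1 ^ 2 * e) * h.1 := by
        refine sl_entries ?_ ?_ ?_ ?_ <;>
          simp [Matrix.SpecialLinearGroup.coe_mul, Matrix.mul_apply, Fin.sum_univ_two, loEl_coe, hh']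
        linear_combination (-(h.1.1 1 1 * e)) * hd
      rw [eq_mul_inv_iff_mul_eq.2 this.symm]
      exact mul_mem (mul_mem h.2 he') (inv_mem h.2)
    obtain ⟨d, hdG, d1, d2, d3⟩ := hdiag _ hμk (pow_ne_zero _ (right_ne_zero_of_mul_eq_one hd))
    have d3' : d.1 1 1 = h.1.1 1 1 := CharTwo.sq_inj.1 d3
    have hdd := det_two d
    rw [d1, zero_mul, sub_zero] at hdd
    have hmul : h.1 * d⁻¹ = loEl (h.1.1 1 0 * h.1.1 1 1) := by
      rw [mul_inv_eq_iff_eq_mul]
      have d0 : d.1 0 0 = h.1.1 0 0 := mul_right_cancel₀ (right_ne_zero_of_mul_eq_one hd) (by rw [hd, ← d3', hdd])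
      refine sl_entries ?_ ?_ ?_ ?_ <;>
        simp [Matrix.SpecialLinearGroup.coe_mul, Matrix.mul_apply, Fin.sum_univ_two, loEl_coe, hh', d1, d2, d0, d3']
      linear_combination -(h.1.1 1 0) * hd
    have hv := (hk _).1 (hmul ▸ mul_mem h.2 (inv_mem hdG))
    have hx01 : x.1 0 1 ≠ 0 := fun e => hg₁ (hHmem.2 e)
    have hcv : c * (h.1.1 1 0 * h.1.1 1 1) = 1 := by
      refine mul_right_cancel₀ hx01 ?_
      linear_combination (-(h.1.1 1 1)) * h01 + (h.1.1 1 1 * c) * h11 + x.1 0 1 * hd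
    have : c * a = (h.1.1 1 0 * h.1.1 1 1 / a)⁻¹ := by
      rw [inv_div]; refine (div_eq_of_eq_mul ?_ ?_).symm
      · intro e; rw [e, mul_zero] at hcv; exact zero_ne_one hcv
      · linear_combination -a * hcv
    rw [this]
    exact k.inv_mem hv
  refine fun c => ⟨hall c, fun hc => ?_⟩
  rcases eq_or_ne c 0 with rfl | hc0
  · rw [upEl_zero]; exact one_mem G
  have hρa := hall ρ hρ
  obtain ⟨d, hdG, d1, d2, d3⟩ := hdiag (ρ / c) (by
    have := k.div_mem hρa hc
    rwa [mul_div_mul_right _ _ ha0] at this) (div_ne_zero hρ0 hc0)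
  have hdd := det_two d
  rw [d1, zero_mul, sub_zero] at hdd
  have h11 : d.1 1 1 ≠ 0 := right_ne_zero_of_mul_eq_one hdd
  have : d * upEl ρ * d⁻¹ = upEl c := by
    rw [mul_inv_eq_iff_eq_mul]
    refine sl_entries ?_ ?_ ?_ ?_ <;>
      simp [Matrix.SpecialLinearGroup.coe_mul, Matrix.mul_apply, Fin.sum_univ_two, upEl_coe, d1, d2]
    have e := d3
    field_simp at e
    refine mul_right_cancel₀ h11 ?_
    linear_combination ρ * hdd - e
  rw [← this]
  exact mul_mem (mul_mem hdG hρ) (inv_mem hdG)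

end Cfsg.Lib.MitchellThree.Residual.Even
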