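import Cfsg.Agent.MitchellThree.Residual.Even.Dickson
import Cfsg.Agent.MitchellThree.Elation.Linear

/-!
Transvections in characteristic two: if one centre and axis carry at least four parameters then all carry the same
subfield and all products of opposite pairs lie in it.
-/

set_option autoImplicit false
set_option linter.unusedSectionVars false
set_option linter.unusedSimpArgs false
set_option linter.style.haveILetI false

namespace Cfsg.Lib.MitchellThree.Residual.Even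

open Matrix Cfsg.Lib.Classical Cfsg.Lib.Classical.LinOne Cfsg.Lib.Classical.SLThree
  Cfsg.Lib.Classical.SLThree.Elation Cfsg.Lib.Classical.SLThree.Singer Cfsg.Lib.MitchellThree.Elation
  Cfsg.Lib.RootSub
open scoped MatrixGroups

universe u

variable {F : Type u} [Field F] {G : Subgroup (GL (Fin 3) F)}

local notation "MM" => Matrix (Fin 3) (Fin 3) F
local notation "GG" => GL (Fin 3) F
local notation "VV" => (Fin 3 → F)

/-- All parameters form one subfield and all products lie in it. -/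
structure Lines (G : Subgroup (GL (Fin 3) F)) (k : Subfield F) : Prop where
  line : ∀ x φ, x ≠ 0 → φ ≠ 0 → Inc G x φ → ∀ c, Inc G (c • x) φ ↔ c ∈ k
  prod : ∀ x φ y ψ, Inc G x φ → Inc G y ψ → (φ ⬝ᵥ y) * (ψ ⬝ᵥ x) ∈ k
  big : ∃ c ∈ k, c ≠ 0 ∧ c ≠ 1

theorem inc_smul_iff {x φ : VV} {c : F} (hc : c ≠ 0) : Inc G (c • x) φ ↔ Inc G x (c • φ) :=
  ⟨fun h => h.move hc, fun h => Inc.smul_right h hc⟩

section finite

variable [Finite F] [CharP F 2]

/-- An opposite pair with at least four parameters on one side. -/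
theorem pair_lines {x φ y ψ : VV} (P : Opp G x φ y ψ) {c₀ : F} (hc₀ : Inc G (c₀ • y) ψ) (h0 : c₀ ≠ 0)
    (h1 : c₀ ≠ 1) :
    ∃ k : Subfield F, (φ ⬝ᵥ y) * (ψ ⬝ᵥ x) ∈ k ∧ (∀ c, Inc G (c • x) φ ↔ c ∈ k) ∧
      (∀ c, Inc G (c • y) ψ ↔ c ∈ k) := by
  set b := ψ ⬝ᵥ x with hb
  set π := (φ ⬝ᵥ y) * b with hπ
  have hb0 : b ≠ 0 := P.hb
  have hπ0 : π ≠ 0 := mul_ne_zero P.ha P.hb
  have hRE : eRow (b⁻¹ • ψ) (π⁻¹ • φ) * eCol x (b • y) = 1 := eRow_mul_eCol (by simp [← hb, hb0])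
    (by simp [P.hh.1]) (by simp [P.hg.1])
    (by simp [smul_smul, hπ]; field_simp [P.ha, hb0])
  let e := emb (eCol x (b • y)) (eRow (b⁻¹ • ψ) (π⁻¹ • φ)) hRE
  let G0 : Subgroup SL(2, F) := G.comap e
  have hlo : ∀ c, loEl c ∈ G0 ↔ Inc G (c • y) ψ := by
    intro c
    have hv : ((e (loEl c) : GG) : MM) = 1 + vecMulVec (c • y) ψ := by
      rw [emb_val, eCol_mul_eRow]
      simp [loEl_coe, smul_vecMulVec, vecMulVec_smul, smul_smul, hb0]
    refine ⟨fun h => ⟨by rw [dotProduct_smul, P.hh.1, smul_zero], _, h, hv⟩, fun h => ?_⟩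
    obtain ⟨g, hg, hgv⟩ := h.2
    rw [Subgroup.mem_comap, show e (loEl c) = g from Units.ext (hv.trans hgv.symm)]
    exact hg
  have hupE : ∀ c, upEl c ∈ G0 ↔ Inc G ((c / π) • x) φ := by
    intro c
    have hv : ((e (upEl c) : GG) : MM) = 1 + vecMulVec ((c / π) • x) φ := by
      rw [emb_val, eCol_mul_eRow]
      simp [upEl_coe, smul_vecMulVec, vecMulVec_smul, smul_smul, div_eq_mul_inv]
    refine ⟨fun h => ⟨by rw [dotProduct_smul, P.hg.1, smul_zero], _, h, hv⟩, fun h => ?_⟩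
    obtain ⟨g, hg, hgv⟩ := h.2
    rw [Subgroup.mem_comap, show e (upEl c) = g from Units.ext (hv.trans hgv.symm)]
    exact hg
  have h1y : loEl (1 : F) ∈ G0 := (hlo 1).2 (by rw [one_smul]; exact P.hh)
  have hπx : upEl π ∈ G0 := (hupE π).2 (by rw [div_self hπ0, one_smul]; exact P.hg)
  obtain ⟨k, μ, hμ, hL, hU⟩ := lines_of_pair G0 h1y ((hlo c₀).2 hc₀) one_ne_zero h0 (Ne.symm h1) hπx hπ0
  have hμk : μ ∈ k := by
    have := k.inv_mem ((hL 1).1 h1y)
    rwa [one_div, inv_inv] at this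
  have hπk : π ∈ k := by
    have := k.div_mem ((hU π).1 hπx) hμk
    rwa [mul_div_cancel_right₀ _ hμ] at this
  refine ⟨k, hπk, fun c => ?_, fun c => ?_⟩
  · have hiff : Inc G (c • x) φ ↔ upEl (c * π) ∈ G0 := by
      rw [hupE, mul_div_cancel_right₀ _ hπ0]
    rw [hiff, hU]
    exact ⟨fun h => by
      have := k.div_mem h (k.mul_mem hπk hμk)
      rwa [mul_assoc, mul_div_cancel_right₀ _ (mul_ne_zero hπ0 hμ)] at this,
      fun h => k.mul_mem (k.mul_mem h hπk) hμk⟩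
  · rw [← hlo, hL]
    exact ⟨fun h => by
      have := k.mul_mem h hμk
      rwa [div_mul_cancel₀ _ hμ] at this, fun h => k.div_mem h hμk⟩

end finite

/-- Parameters equal to a given subfield. -/
def Good (G : Subgroup (GL (Fin 3) F)) (k : Subfield F) (x φ : Fin 3 → F) : Prop :=
  x ≠ 0 ∧ φ ≠ 0 ∧ Inc G x φ ∧ ∀ c, Inc G (c • x) φ ↔ c ∈ k

variable {k : Subfield F}

theorem Good.conj {x φ : VV} (h : Good G k x φ) {g : GG} (hg : g ∈ G) :
    Good G k ((g : MM) *ᵥ x) (φ ᵥ* ((g⁻¹ : GG) : MM)) := by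
  obtain ⟨h1, h2, h3, h4⟩ := h
  refine ⟨GL_ne_zero_mulVec g h1, GL_ne_zero_vecMul _ h2, h3.conj hg, fun c => ?_⟩
  rw [← h4 c, ← mulVec_smul]
  refine ⟨fun h => ?_, fun h => h.conj hg⟩
  have := h.conj (G.inv_mem hg)
  rwa [inv_inv, mulVec_mulVec, vecMul_vecMul, ← Units.val_mul, inv_mul_cancel, Units.val_one, one_mulVec,
    vecMul_one] at this

theorem exists_good_centre (hirr : Irr G) {x φ : VV} (h : Good G k x φ) {χ : VV} (hχ : χ ≠ 0) :
    ∃ y ψ, Good G k y ψ ∧ χ ⬝ᵥ y ≠ 0 := by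
  by_contra hc
  push Not at hc
  let S : Submodule F VV := Submodule.span F {y | ∃ ψ, Good G k y ψ}
  have hS : S = ⊤ := by
    refine (hirr S fun g hg z hz => ?_).resolve_left fun e => h.1 ((Submodule.mem_bot F).1
      (e ▸ Submodule.subset_span ⟨φ, h⟩))
    induction hz using Submodule.span_induction with
    | mem w hw =>
      obtain ⟨ψ, hw⟩ := hw
      exact Submodule.subset_span ⟨_, hw.conj hg⟩
    | zero => rw [mulVec_zero]; exact S.zero_mem
    | add a b _ _ ha hb => rw [mulVec_add]; exact S.add_mem ha hb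
    | smul c a _ ha => rw [mulVec_smul]; exact S.smul_mem c ha
  refine hχ (dotProduct_eq_zero χ fun z => ?_)
  have hz : z ∈ S := hS ▸ Submodule.mem_top
  induction hz using Submodule.span_induction with
  | mem w hw =>
    obtain ⟨ψ, hw⟩ := hw
    exact hc w ψ hw
  | zero => exact dotProduct_zero χ
  | add a b _ _ ha hb => rw [dotProduct_add, ha, hb, add_zero]
  | smul c a _ ha => rw [dotProduct_smul, ha, smul_zero]

theorem exists_good_axis (hirr : Irr G) {x φ : VV} (h : Good G k x φ) {v : VV} (hv : v ≠ 0) :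
    ∃ y ψ, Good G k y ψ ∧ ψ ⬝ᵥ v ≠ 0 := by
  by_contra hc
  push Not at hc
  let S : Submodule F VV :=
    { carrier := {z | ∀ y ψ, Good G k y ψ → ψ ⬝ᵥ z = 0}
      zero_mem' := fun y ψ _ => dotProduct_zero ψ
      add_mem' := fun {a b} ha hb y ψ hy => by rw [dotProduct_add, ha y ψ hy, hb y ψ hy, add_zero]
      smul_mem' := fun c a ha y ψ hy => by rw [dotProduct_smul, ha y ψ hy, smul_zero] }
  rcases hirr S (fun g hg z hz y ψ hy => by
      have := hz _ _ (hy.conj (G.inv_mem hg))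
      rwa [inv_inv, ← dotProduct_mulVec] at this) with e | e
  · have : v ∈ S := hc
    rw [e] at this
    exact hv ((Submodule.mem_bot F).1 this)
  · refine h.2.1 (dotProduct_eq_zero φ fun z => ?_)
    have : z ∈ S := e ▸ Submodule.mem_top
    exact this x φ h

/-- One large parameter set spreads to all. -/
theorem exists_lines [Fintype F] [CharP F 2] (hirr : Irr G) {x φ : VV} (hx : x ≠ 0) (hφ : φ ≠ 0) (h : Inc G x φ)
    {c₀ : F} (hc₀ : Inc G (c₀ • x) φ) (h0 : c₀ ≠ 0) (h1 : c₀ ≠ 1) : ∃ k, Lines G k := by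
  obtain ⟨y, ψ, hy, hψ, hI, ha⟩ := exists_centre hirr hx hφ h hφ
  -- an opposite elation to the first
  obtain ⟨k, hxk⟩ : ∃ k : Subfield F, ∀ c, Inc G (c • x) φ ↔ c ∈ k := by
    by_cases hb : ψ ⬝ᵥ x = 0
    swap
    · obtain ⟨k, -, -, hk⟩ := pair_lines (Opp.mk hI h hb ha) hc₀ h0 h1
      exact ⟨k, hk⟩
    obtain ⟨z, χ, hz, hχ, hI', hχx⟩ := exists_axis hirr hx hφ h hx
    by_cases ha' : φ ⬝ᵥ z = 0
    swap
    · obtain ⟨k, -, -, hk⟩ := pair_lines (Opp.mk hI' h hχx ha') hc₀ h0 h1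
      exact ⟨k, hk⟩
    by_cases hmix : χ ⬝ᵥ y = 0
    · -- conjugate the first partner by the second
      obtain ⟨g, hg, hgv⟩ := hI.2
      have hginv : ((g⁻¹ : GG) : MM) = 1 + vecMulVec y ψ := by
        rw [Matrix.coe_units_inv, hgv]
        refine Matrix.inv_eq_right_inv ?_
        rw [one_mul_one, hI.1, zero_smul, zero_vecMulVec, add_zero, add_assoc,
          show vecMulVec y ψ + vecMulVec y ψ = 0 by ext i j; simp [CharTwo.add_self_eq_zero], add_zero]
      have hI'' := hI'.conj hg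
      rw [hgv, hginv, one_mulVec', vecMul_one'] at hI''
      by_cases hψz : ψ ⬝ᵥ z = 0
      · exfalso
        have hψφ : ∀ a : F, ψ ≠ a • φ := fun a e => by
          have h' := hI.1
          rw [e, smul_dotProduct, smul_eq_mul] at h'
          exact hψ (by rw [e, (mul_eq_zero.1 h').resolve_right ha, zero_smul])
        obtain ⟨a, rfl⟩ := kernel_line hφ hψφ hx h.1 hb ha' hψz
        have h' := hI'.1
        rw [dotProduct_smul, smul_eq_mul] at h'
        exact hz (by rw [(mul_eq_zero.1 h').resolve_right hχx, zero_smul])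
      · have hz' : φ ⬝ᵥ (z + (ψ ⬝ᵥ z) • y) ≠ 0 := by
          rw [dotProduct_add, ha', zero_add, dotProduct_smul, smul_eq_mul]
          exact mul_ne_zero hψz ha
        have hχ' : (χ + (χ ⬝ᵥ y) • ψ) ⬝ᵥ x ≠ 0 := by
          rw [hmix, zero_smul, add_zero]; exact hχx
        obtain ⟨k, -, -, hk⟩ := pair_lines (Opp.mk hI'' h hχ' hz') hc₀ h0 h1
        exact ⟨k, hk⟩
    · obtain ⟨g, hg, hgv⟩ := hI'.2
      have hginv : ((g⁻¹ : GG) : MM) = 1 + vecMulVec z χ := by
        rw [Matrix.coe_units_inv, hgv]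
        refine Matrix.inv_eq_right_inv ?_
        rw [one_mul_one, hI'.1, zero_smul, zero_vecMulVec, add_zero, add_assoc,
          show vecMulVec z χ + vecMulVec z χ = 0 by ext i j; simp [CharTwo.add_self_eq_zero], add_zero]
      have hI'' := hI.conj hg
      rw [hgv, hginv, one_mulVec', vecMul_one'] at hI''
      have hy' : φ ⬝ᵥ (y + (χ ⬝ᵥ y) • z) ≠ 0 := by
        rw [dotProduct_add, dotProduct_smul, ha', smul_zero, add_zero]; exact ha
      by_cases hψ' : (ψ + (ψ ⬝ᵥ z) • χ) ⬝ᵥ x = 0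
      · rw [add_dotProduct, hb, zero_add, smul_dotProduct, smul_eq_mul] at hψ'
        have hψz : ψ ⬝ᵥ z = 0 := (mul_eq_zero.1 hψ').resolve_right hχx
        exfalso
        have hψφ : ∀ a : F, ψ ≠ a • φ := fun a e => by
          have h' := hI.1
          rw [e, smul_dotProduct, smul_eq_mul] at h'
          exact hψ (by rw [e, (mul_eq_zero.1 h').resolve_right ha, zero_smul])
        obtain ⟨a, rfl⟩ := kernel_line hφ hψφ hx h.1 hb ha' hψz
        have h' := hI'.1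
        rw [dotProduct_smul, smul_eq_mul] at h'
        exact hz (by rw [(mul_eq_zero.1 h').resolve_right hχx, zero_smul])
      · obtain ⟨k, -, -, hk⟩ := pair_lines (Opp.mk hI'' h hψ' hy') hc₀ h0 h1
        exact ⟨k, hk⟩
  have hgood : Good G k x φ := ⟨hx, hφ, h, hxk⟩
  have hbig : c₀ ∈ k := (hxk c₀).1 hc₀
  have spread : ∀ {z χ w η : VV}, Good G k w η → (Opp G z χ w η) →
      (χ ⬝ᵥ w) * (η ⬝ᵥ z) ∈ k ∧ ∀ c, Inc G (c • z) χ ↔ c ∈ k := by
    intro z χ w η hw P
    obtain ⟨k', hπ, hz, hw'⟩ := pair_lines P ((hw.2.2.2 c₀).2 hbig) h0 h1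
    have : k' = k := SetLike.ext fun c => (hw' c).symm.trans (hw.2.2.2 c)
    subst this
    exact ⟨hπ, hz⟩
  have hline : ∀ z χ, z ≠ 0 → χ ≠ 0 → Inc G z χ → ∀ c, Inc G (c • z) χ ↔ c ∈ k := by
    intro z χ hz hχ hI
    obtain ⟨w₁, η₁, hw₁, h₁⟩ := exists_good_centre hirr hgood hχ
    by_cases e₁ : η₁ ⬝ᵥ z = 0
    swap
    · exact (spread hw₁ ⟨hI, hw₁.2.2.1, h₁, e₁⟩).2
    obtain ⟨w₂, η₂, hw₂, h₂⟩ := exists_good_axis hirr hgood hz
    by_cases e₂ : χ ⬝ᵥ w₂ = 0
    swap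
    · exact (spread hw₂ ⟨hI, hw₂.2.2.1, e₂, h₂⟩).2
    by_cases e₁₂ : η₁ ⬝ᵥ w₂ = 0
    · exfalso
      have hne : ∀ a : F, η₁ ≠ a • χ := fun a e => by
        have h' := hw₁.2.2.1.1
        rw [e, smul_dotProduct, smul_eq_mul] at h'
        exact hw₁.2.1 (by rw [e, (mul_eq_zero.1 h').resolve_right h₁, zero_smul])
      obtain ⟨a, rfl⟩ := kernel_line hχ hne hz hI.1 e₁ e₂ e₁₂
      have h' := hw₂.2.2.1.1
      rw [dotProduct_smul, smul_eq_mul] at h'
      exact hw₂.1 (by rw [(mul_eq_zero.1 h').resolve_right h₂, zero_smul])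
    · obtain ⟨g, hg, hgv⟩ := hw₁.2.2.1.2
      have hginv : ((g⁻¹ : GG) : MM) = 1 + vecMulVec w₁ η₁ := by
        rw [Matrix.coe_units_inv, hgv]
        refine Matrix.inv_eq_right_inv ?_
        rw [one_mul_one, hw₁.2.2.1.1, zero_smul, zero_vecMulVec, add_zero, add_assoc,
          show vecMulVec w₁ η₁ + vecMulVec w₁ η₁ = 0 by ext i j; simp [CharTwo.add_self_eq_zero], add_zero]
      have hw := hw₂.conj hg
      rw [hgv, hginv, one_mulVec', vecMul_one'] at hw
      refine (spread hw ⟨hI, hw.2.2.1, ?_, ?_⟩).2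
      · rw [dotProduct_add, e₂, zero_add, dotProduct_smul, smul_eq_mul]
        exact mul_ne_zero e₁₂ h₁
      · rw [add_dotProduct, smul_dotProduct, e₁, smul_zero, add_zero]
        exact h₂
  refine ⟨k, hline, fun u α v β hu hv => ?_, ⟨c₀, hbig, h0, h1⟩⟩
  by_cases e : (α ⬝ᵥ v) * (β ⬝ᵥ u) = 0
  · rw [e]; exact k.zero_mem
  · have P : Opp G u α v β := ⟨hu, hv, left_ne_zero_of_mul e, right_ne_zero_of_mul e⟩
    have hv0 : v ≠ 0 := fun e' => P.ha (by rw [e', dotProduct_zero])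
    have hβ0 : β ≠ 0 := fun e' => P.hb (by rw [e', zero_dotProduct])
    exact (spread ⟨hv0, hβ0, hv, hline v β hv0 hβ0 hv⟩ P).1

theorem Lines.dual [Fintype F] (hL : Lines G k) : Lines (G.map dualHom) k := by
  refine ⟨fun φ x hφ hx h c => ?_, fun φ x ψ y h h' => ?_, hL.big⟩
  · have h' : Inc G x φ := inc_dual_iff.1 h
    rcases eq_or_ne c 0 with rfl | hc
    · rw [zero_smul]
      exact iff_of_true ⟨dotProduct_zero _, ⟨1, one_mem _, by simp⟩⟩ k.zero_mem
    · rw [inc_dual_iff, ← hL.line x φ hx hφ h' c, inc_smul_iff hc]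
  · have e := hL.prod x φ y ψ (inc_dual_iff.1 h) (inc_dual_iff.1 h')
    rw [dotProduct_comm φ, dotProduct_comm ψ] at e
    rwa [mul_comm]

/-- Splitting along a pair. -/
theorem Lines.split (hL : Lines G k) {x φ y ψ z : VV} (P : Opp G x φ y ψ) (hz : Inc G z φ) :
    Inc G (z - ((ψ ⬝ᵥ z) / (ψ ⬝ᵥ x)) • x) φ := by
  have hx : x ≠ 0 := fun e => P.hb (by rw [e, dotProduct_zero])
  have hφ : φ ≠ 0 := fun e => P.ha (by rw [e, zero_dotProduct])
  refine mem_Bgp.1 ((Bgp G φ).sub_mem (mem_Bgp.2 hz) (mem_Bgp.2 ((hL.line x φ hx hφ P.hg _).2 ?_)))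
  have := k.div_mem (hL.prod z φ y ψ hz P.hh) (hL.prod x φ y ψ P.hg P.hh)
  rwa [mul_div_mul_left _ _ P.ha] at this

end Cfsg.Lib.MitchellThree.Residual.Even
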