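import Cfsg.Agent.MitchellThree.Residual.Even.Many
import Cfsg.Agent.MitchellThree.Elation.Main

/-!
Characteristic two: centres and axes in one-to-one correspondence lead to a unitary form.
-/

set_option autoImplicit false
set_option linter.unusedSectionVars false
set_option linter.unusedSimpArgs false
set_option linter.style.haveILetI false
set_option maxHeartbeats 400000

namespace Cfsg.Lib.MitchellThree.Residual.Even

open Matrix Cfsg.Lib.Classical Cfsg.Lib.Classical.LinOne Cfsg.Lib.Classical.SLThree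
  Cfsg.Lib.Classical.SLThree.Elation Cfsg.Lib.Classical.SLThree.Singer Cfsg.Lib.MitchellThree.Elation
  Cfsg.Lib.Components.UnitaryThree
open scoped MatrixGroups

universe u

variable {F : Type u} [Field F] {G : Subgroup (GL (Fin 3) F)} {k : Subfield F}

local notation "MM" => Matrix (Fin 3) (Fin 3) F
local notation "GG" => GL (Fin 3) F
local notation "VV" => (Fin 3 → F)

theorem one2one_of_not_many [Fintype F] (hL : Lines G k) (hirr : Irr G) (hM : ¬ Many G) : One2One G := by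
  refine ⟨fun x x' φ hx hφ h h' => ?_, fun x φ ψ hx hφ h h' => ?_⟩
  · by_contra hc
    push Not at hc
    exact hM ⟨φ, x, x', hφ, hx, h, h', hc⟩
  · by_contra hc
    push Not at hc
    have := many_dual hL.dual (irr_dualHom hirr) (⟨x, φ, ψ, hx, hφ, inc_dual h, inc_dual h', hc⟩ : Many (G.map dualHom))
    rw [map_dual_dual] at this
    exact hM this

theorem one_pair (hL : Lines G k) {x φ y ψ : VV} (P : Opp G x φ y ψ) :
    (φ ⬝ᵥ y) * (ψ ⬝ᵥ x) ∈ k ∧ (∀ c, Inc G (c • x) φ ↔ c ∈ k) ∧ (∀ c, Inc G (c • y) ψ ↔ c ∈ k) :=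
  ⟨hL.prod _ _ _ _ P.hg P.hh,
    hL.line x φ (fun e => P.hb (by rw [e, dotProduct_zero])) (fun e => P.ha (by rw [e, zero_dotProduct])) P.hg,
    hL.line y ψ (fun e => P.ha (by rw [e, dotProduct_zero])) (fun e => P.hb (by rw [e, zero_dotProduct])) P.hh⟩

variable [Fintype F]

theorem exists_U0 (hL : Lines G k) (hirr : Irr G) (hU : One2One G) {x φ : VV} (hx : x ≠ 0) (hφ : φ ≠ 0)
    (h : Inc G x φ) : ∃ P : GG, U0 (conjG P G) k := by
  obtain ⟨y, ψ, hy, hψ, h', ha⟩ := exists_centre hirr hx hφ h hφ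
  have P0 := hU.opp hx hφ hy hψ h h' fun a e => ha (by rw [e, dotProduct_smul, h.1, smul_zero])
  obtain ⟨hπ, hA, hB⟩ := one_pair hL P0
  obtain ⟨m, hm, hmx, hmy⟩ := exists_pair x y
  rw [dotProduct_comm] at hmx hmy
  obtain ⟨z, hz, hzφ, hzψ⟩ := exists_pair φ ψ
  have hyx : y ∉ Submodule.span F ({x} : Set VV) := fun hc => by
    obtain ⟨a, rfl⟩ := Submodule.mem_span_singleton.1 hc
    exact ha (by rw [dotProduct_smul, h.1, smul_zero])
  have hmz : m ⬝ᵥ z ≠ 0 := fun e => by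
    obtain ⟨α, β, rfl⟩ := mem_span_pair hm hmx hmy e hx hyx
    rw [dotProduct_add, dotProduct_smul, dotProduct_smul, h.1] at hzφ
    rw [dotProduct_add, dotProduct_smul, dotProduct_smul, h'.1] at hzψ
    simp [P0.ha] at hzφ
    simp [P0.hb] at hzψ
    exact hz (by rw [hzφ, hzψ, zero_smul, zero_smul, add_zero])
  set a := φ ⬝ᵥ y with hadef
  set b := ψ ⬝ᵥ x with hbdef
  have hb : b ≠ 0 := P0.hb
  set e : Fin 3 → VV := ![a • x, z, y] with he
  set f : Fin 3 → VV := ![(a * b)⁻¹ • ψ, (m ⬝ᵥ z)⁻¹ • m, a⁻¹ • φ] with hf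
  have hdual : ∀ i j, f i ⬝ᵥ e j = if i = j then 1 else 0 := by
    intro i j
    fin_cases i <;> fin_cases j <;>
      simp [he, hf, hmx, hmy, hzφ, hzψ, h.1, h'.1, ← hadef, ← hbdef, hmz, ha, hb]
    field_simp
  obtain ⟨P, hP, hP'⟩ := exists_frame_matrix hdual
  have he' : ∀ (c : F) (i : Fin 3), (P : MM) *ᵥ (c • e i) = c • ev i := fun c i => by
    funext l
    rw [hP, dotProduct_smul, hdual]
    simp [ev, Pi.single_apply]
  have hf' : ∀ j : Fin 3, f j ᵥ* ((P⁻¹ : GG) : MM) = ev j := fun j => by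
    funext l
    rw [hP', hdual]
    simp [ev, Pi.single_apply, eq_comm]
  have tr : ∀ (c : F) (i j : Fin 3), Inc (conjG P G) (c • ev i) (ev j) ↔ Inc G (c • e i) (f j) := fun c i j => by
    rw [← he' c i, ← hf' j, inc_conjG_iff, mulVec_mulVec, vecMul_vecMul, ← Units.val_mul, inv_mul_cancel,
      Units.val_one, one_mulVec, vecMul_one]
  refine ⟨P, fun c => ⟨(tr c 0 2).trans ?_, (tr c 2 0).trans ?_⟩⟩
  · rw [← hA c]
    show Inc G (c • a • x) (a⁻¹ • φ) ↔ _
    rw [smul_comm c a]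
    exact ⟨fun hI => by simpa [ha, smul_smul] using Inc.smul_right hI (inv_ne_zero ha),
      fun hI => hI.scale (mul_inv_cancel₀ ha)⟩
  · have hc : c ∈ k ↔ (a * b)⁻¹ * c ∈ k := ⟨fun hc => k.mul_mem (k.inv_mem hπ) hc, fun hc => by
      have := k.mul_mem hπ hc
      rwa [mul_inv_cancel_left₀ (mul_ne_zero ha hb)] at this⟩
    rw [hc, ← hB]
    show Inc G (c • y) ((a * b)⁻¹ • ψ) ↔ _
    refine ⟨fun hI => by simpa [smul_smul] using Inc.smul_right hI (inv_ne_zero (mul_ne_zero ha hb)), fun hI => ?_⟩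
    have := hI.scale (a := a * b) (b := (a * b)⁻¹) (mul_inv_cancel₀ (mul_ne_zero ha hb))
    rwa [smul_smul, mul_inv_cancel_left₀ (mul_ne_zero ha hb)] at this

/-- The standing data. -/
structure Ctx (G : Subgroup (GL (Fin 3) F)) (k : Subfield F) (σ : F →+* F) : Prop where
  lines : Lines G k
  irr : Irr G
  uniq : One2One G
  std : U0 G k
  fix : ∀ x, σ x = x ↔ x ∈ k

variable {σ : F →+* F}

omit [Fintype F] in
theorem ev_ne (i : Fin 3) : (ev i : VV) ≠ 0 := fun e => one_ne_zero (α := F) (by simpa [ev] using congrFun e i)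

theorem Ctx.root (C : Ctx G k σ) {c : F} (hc : c ∈ k) :
    Inc G (c • ev 0) (ev 2) ∧ Inc G (c • ev 2) (ev 0) := ⟨((C.std c).1).2 hc, ((C.std c).2).2 hc⟩

theorem Ctx.base0 (C : Ctx G k σ) : Inc G (ev 0) (ev 2) := by
  have := (C.root k.one_mem).1; rwa [one_smul] at this

theorem Ctx.base2 (C : Ctx G k σ) : Inc G (ev 2) (ev 0) := by
  have := (C.root k.one_mem).2; rwa [one_smul] at this

theorem Ctx.shift (C : Ctx G k σ) {w η : VV} (h : Inc G w η) {x : F} (hx : x ∈ k) :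
    Inc G ![w 0 + x * w 2, w 1, w 2] ![η 0, η 1, η 2 - x * η 0] := by
  obtain ⟨g, hg, hgv⟩ := (C.root hx).1.2
  have hgi : ((g⁻¹ : GG) : MM) = 1 + vecMulVec (x • ev 0) (-(ev 2)) := by
    rw [Matrix.coe_units_inv, hgv]
    refine Matrix.inv_eq_right_inv ?_
    rw [one_mul_one, (C.root hx).1.1, zero_smul, zero_vecMulVec, add_zero, vecMulVec_neg]
    abel
  have := h.conj hg
  rw [hgi, hgv, one_mulVec', vecMul_one'] at this
  convert this using 1
  · funext i; fin_cases i <;> simp [ev, mul_comm]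
  · funext i; fin_cases i <;> simp [ev, mul_comm, sub_eq_add_neg]

/-- Facts about a centre with last coordinate one. -/
structure Facts (G : Subgroup (GL (Fin 3) F)) (k : Subfield F) (σ : F →+* F) (w η : Fin 3 → F) : Prop where
  ne : η 0 ≠ 0
  mem : η 0 ∈ k
  last : η 2 = -(η 0 * σ (w 0))
  quad : σ (σ (w 0)) = w 0
  mid : η 1 * w 1 = -(η 0 * (w 0 - σ (w 0)))
  off : w 1 ≠ 0 → σ (w 0) ≠ w 0
  param : ∀ c, Inc G (c • w) η ↔ c ∈ k

theorem Ctx.facts (C : Ctx G k σ) {w η : VV} (hη : η ≠ 0) (h : Inc G w η) (hw2 : w 2 = 1) :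
    Facts G k σ w η := by
  have hw : w ≠ 0 := fun e => one_ne_zero (α := F) (by rw [← hw2, e, Pi.zero_apply])
  have P0 := C.uniq.opp (ev_ne 0) (ev_ne 2) hw hη C.base0 h fun a e => one_ne_zero (α := F) (by
    rw [← hw2, e]; simp [ev])
  obtain ⟨hπ, hA, hB⟩ := one_pair C.lines P0
  have hMk : ∀ c, c ∈ k ↔ c ∈ k := fun c => Iff.rfl
  have hb : η ⬝ᵥ ev 0 = η 0 := by simp [ev]
  have ha : (ev 2 : VV) ⬝ᵥ w = 1 := by simp [ev, hw2]
  have hne : η 0 ≠ 0 := hb ▸ P0.hb
  have hmem : η 0 ∈ k := by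
    rw [← hMk]; rwa [ha, hb, one_mul] at hπ
  have hshift : ∀ x ∈ k, (w 0 + x) * (η 2 - x * η 0) ∈ k ∧ (w 1 ≠ 0 → w 0 + x ≠ 0) := by
    intro x hx
    have h' := C.shift h hx
    rw [hw2, mul_one] at h'
    have hη' : (![η 0, η 1, η 2 - x * η 0] : VV) ≠ 0 := fun e => hne (by simpa using congrFun e 0)
    have hw' : (![w 0 + x, w 1, 1] : VV) ≠ 0 := fun e => one_ne_zero (α := F) (by simpa using congrFun e 2)
    by_cases hprop : ∃ a : F, (![w 0 + x, w 1, 1] : VV) = a • ev 2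
    · obtain ⟨a, hae⟩ := hprop
      have e0 : w 0 + x = 0 := by simpa [ev] using congrFun hae 0
      have e1 : w 1 = 0 := by simpa [ev] using congrFun hae 1
      exact ⟨by rw [e0, zero_mul]; exact k.zero_mem, fun h1 => absurd e1 h1⟩
    push Not at hprop
    have P1 := C.uniq.opp (ev_ne 2) (ev_ne 0) hw' hη' C.base2 h' hprop
    obtain ⟨hπ', -, -⟩ := one_pair C.lines P1
    have hMk' : ∀ c, c ∈ k ↔ c ∈ k := fun c => Iff.rfl
    refine ⟨?_, fun _ e => P1.ha (by simp [ev, e])⟩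
    rw [← hMk']
    simpa [ev] using hπ'
  have hn : w 0 * η 2 ∈ k := by simpa using (hshift 0 k.zero_mem).1
  have hl : η 2 - w 0 * η 0 ∈ k := by
    have := k.add_mem (k.sub_mem (hshift 1 k.one_mem).1 hn) hmem
    convert this using 1
    ring
  have hnot : w 1 ≠ 0 → σ (w 0) ≠ w 0 := fun h1 e =>
    (hshift (-(w 0)) (k.neg_mem ((C.fix _).1 e))).2 h1 (by ring)
  have hdot : η 0 * w 0 + η 1 * w 1 + η 2 = 0 := by
    have := h.1
    simpa [dotProduct, Fin.sum_univ_three, hw2] using this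
  have hm := (C.fix _).2 hmem
  have hn' := (C.fix _).2 hn
  have hl' := (C.fix _).2 hl
  rw [map_mul] at hn'
  rw [map_sub, map_mul, hm] at hl'
  have hfac : (σ (w 0) - w 0) * (η 0 * σ (w 0) + η 2) = 0 := by linear_combination hn' - σ (w 0) * hl'
  have hlast : η 2 = -(η 0 * σ (w 0)) := by
    rcases mul_eq_zero.1 hfac with e | e
    · have e' := sub_eq_zero.1 e
      have h1 : w 1 = 0 := by by_contra h1; exact hnot h1 e'
      rw [h1, mul_zero] at hdot
      linear_combination hdot + η 0 * e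
    · linear_combination e
  refine ⟨hne, hmem, hlast, ?_, by linear_combination hdot - hlast, hnot, fun c => ?_⟩
  · refine mul_left_cancel₀ hne ?_
    have := congrArg σ hlast
    rw [map_neg, map_mul, hm] at this
    linear_combination this - hl' - hlast
  · rw [hB c]

theorem Ctx.unit_mid (C : Ctx G k σ) :
    ∃ w η : VV, Inc G w η ∧ η ≠ 0 ∧ w 1 ≠ 0 ∧ w 2 = 1 := by
  obtain ⟨y, ψ, hy, hψ, h, h1⟩ := exists_centre C.irr (ev_ne 0) (ev_ne 2) C.base0 (ev_ne (F := F) 1)
  have hy1 : y 1 ≠ 0 := by simpa [ev] using h1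
  have hy2 : y 2 ≠ 0 := by
    have := (C.uniq.opp (ev_ne 0) (ev_ne 2) hy hψ C.base0 h fun a e => hy1 (by rw [e]; simp [ev])).ha
    simpa [ev] using this
  exact ⟨(y 2)⁻¹ • y, (y 2) • ψ, h.scale (inv_mul_cancel₀ hy2), smul_ne_zero hy2 hψ, by simp [hy1, hy2],
    by simp [hy2]⟩

/-- The context with a third centre at `(r, 1, 1)`. -/
structure Base (G : Subgroup (GL (Fin 3) F)) (k : Subfield F) (σ : F →+* F) (r : F) : Prop extends Ctx G k σ where
  third : ∃ η : Fin 3 → F, η ≠ 0 ∧ Inc G ![r, 1, 1] η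

theorem exists_base (hL : Lines G k) (hirr : Irr G) (hU : One2One G) {x φ : VV} (hx : x ≠ 0) (hφ : φ ≠ 0)
    (h : Inc G x φ) : ∃ (P : GG) (σ : F →+* F) (r : F),
      (∀ x, σ x = x ^ Nat.card k) ∧ Base (conjG P G) k σ r := by
  obtain ⟨P, hk⟩ := exists_U0 hL hirr hU hx hφ h
  obtain ⟨σ, hσ, hfix⟩ := exists_conj_card k
  have C : Ctx (conjG P G) k σ := ⟨hL.conj P, irr_conjG hirr, hU.conj P, hk, hfix⟩
  obtain ⟨w, η, hI, hη, hw1, hw2⟩ := C.unit_mid
  have h1 : Matrix.diagonal ![1, (w 1)⁻¹, 1] * Matrix.diagonal ![1, w 1, 1] = (1 : MM) := by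
    rw [diagonal_mul_diagonal, ← diagonal_one]
    congr 1
    funext i
    fin_cases i <;> simp [hw1]
  let Q : GG := ⟨Matrix.diagonal ![1, (w 1)⁻¹, 1], _, h1, mul_eq_one_comm.1 h1⟩
  have hQ : ∀ (c : F) (i j : Fin 3), i ≠ 1 → j ≠ 1 →
      (Inc (conjG Q (conjG P G)) (c • ev i) (ev j) ↔ Inc (conjG P G) (c • ev i) (ev j)) := by
    intro c i j hi hj
    have e1 : ((Q⁻¹ : GG) : MM) *ᵥ (c • ev i) = c • ev i := by
      show Matrix.diagonal ![1, w 1, 1] *ᵥ (c • ev i) = c • ev i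
      funext l
      fin_cases i <;> fin_cases l <;> simp [ev, mulVec_diagonal] at hi ⊢
    have e2 : (ev j : VV) ᵥ* (Q : MM) = ev j := by
      show (ev j : VV) ᵥ* Matrix.diagonal ![1, (w 1)⁻¹, 1] = ev j
      funext l
      fin_cases j <;> fin_cases l <;> simp [ev, vecMul_diagonal] at hj ⊢
    rw [inc_conjG_iff, e1, e2]
  have e : conjG Q (conjG P G) = conjG (Q * P) G := by
    rw [conjG, conjG, conjG, Subgroup.map_map]
    congr 1
    ext g
    simp [mul_assoc]
  refine ⟨Q * P, σ, w 0, hσ, ?_⟩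
  rw [← e]
  refine ⟨⟨C.lines.conj Q, irr_conjG C.irr, C.uniq.conj Q, fun c => ⟨?_, ?_⟩, hfix⟩, _, GL_ne_zero_vecMul Q⁻¹ hη, ?_⟩
  · rw [hQ c 0 2 (by decide) (by decide)]; exact (hk c).1
  · rw [hQ c 2 0 (by decide) (by decide)]; exact (hk c).2
  · have e1 : (Q : MM) *ᵥ w = ![w 0, 1, 1] := by
      show Matrix.diagonal ![1, (w 1)⁻¹, 1] *ᵥ w = _
      funext l
      fin_cases l <;> simp [mulVec_diagonal, hw1, hw2]
    rw [← e1]
    exact inc_conjG hI

/-- The functional of a vector for the form. -/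
def chi (σ : F →+* F) (D : F) (v : Fin 3 → F) : Fin 3 → F := ![-σ (v 2), D * σ (v 1), σ (v 0)]

variable {r : F}

theorem Base.third_form (B : Base G k σ r) :
    σ (σ r) = r ∧ σ r ≠ r ∧ ∀ c : F, Inc G (c • ![r, 1, 1]) (chi σ (r - σ r) ![r, 1, 1]) ↔ c ∈ k := by
  obtain ⟨η, hη, h⟩ := B.third
  have hf := B.toCtx.facts hη h (by simp)
  have e : η = (-(η 0)) • chi σ (r - σ r) ![r, 1, 1] := by
    have hm := hf.mid
    have hl := hf.last
    simp at hm hl
    funext i
    fin_cases i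
    · simp [chi]
    · simp [chi]; linear_combination hm
    · simp [chi]; linear_combination hl
  refine ⟨by simpa using hf.quad, by simpa using hf.off (by simp), fun c => ?_⟩
  have hm0 : -(η 0) ≠ 0 := neg_ne_zero.2 hf.ne
  have hmk : -(η 0) ∈ k := k.neg_mem hf.mem
  set m := -(η 0)
  clear_value m
  have hp := hf.param (c / m)
  refine ⟨fun hI => ?_, fun hc => ?_⟩
  · have := hI.scale (a := m⁻¹) (b := m) (inv_mul_cancel₀ hm0)
    rw [← e, smul_smul, mul_comm, ← div_eq_mul_inv] at this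
    have := k.mul_mem (hp.1 this) hmk
    rwa [div_mul_cancel₀ _ hm0] at this
  · have := hp.2 (k.div_mem hc hmk)
    rw [e] at this
    have := Inc.smul_right this hm0
    rwa [smul_smul, mul_div_cancel₀ _ hm0] at this

theorem Base.mid_cases (B : Base G k σ r) {v η : VV} (hη : η ≠ 0) (h : Inc G v η) (hv2 : v 2 = 1)
    (hv1 : v 1 ≠ 0) :
    σ (σ (v 1)) = v 1 ∧ (v 0 - σ (v 0) = (r - σ r) * (v 1 * σ (v 1)) ∨ v 1 + σ (v 1) = 0) := by
  obtain ⟨hrr, hr, hroot⟩ := B.third_form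
  have hf := B.toCtx.facts hη h hv2
  set D := r - σ r with hDdef
  have hD : D ≠ 0 := sub_ne_zero.2 (Ne.symm hr)
  have hσD : σ D = -D := by rw [hDdef, map_sub, hrr]; ring
  set D' := v 0 - σ (v 0) with hD'def
  have hσD' : σ D' = -D' := by rw [hD'def, map_sub, hf.quad]; ring
  have hw0 : Inc G ![r, 1, 1] (chi σ D ![r, 1, 1]) := by
    have := (hroot 1).2 k.one_mem; rwa [one_smul] at this
  have hwne : (![r, 1, 1] : VV) ≠ 0 := fun e => one_ne_zero (α := F) (by simpa using congrFun e 2)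
  have hchine : chi σ D ![r, 1, 1] ≠ 0 := fun e => one_ne_zero (α := F) (by simpa [chi] using congrFun e 0)
  have prod : ∀ x ∈ k, ((v 0 + x) - D * v 1 - σ r) * (r - D' / v 1 - σ (v 0) - x) ∈ k := by
    intro x hx
    have h' := B.toCtx.shift h hx
    rw [hv2, mul_one] at h'
    have hη' : (![η 0, η 1, η 2 - x * η 0] : VV) ≠ 0 := fun e => hf.ne (by simpa using congrFun e 0)
    have hv' : (![v 0 + x, v 1, 1] : VV) ≠ 0 := fun e => one_ne_zero (α := F) (by simpa using congrFun e 2)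
    have hval : (chi σ D ![r, 1, 1] ⬝ᵥ ![v 0 + x, v 1, 1]) * (![η 0, η 1, η 2 - x * η 0] ⬝ᵥ ![r, 1, 1]) =
        -(η 0) * (((v 0 + x) - D * v 1 - σ r) * (r - D' / v 1 - σ (v 0) - x)) := by
      have h1 : η 1 = -(η 0 * D') / v 1 := by rw [eq_div_iff hv1]; exact hf.mid
      simp [chi, dotProduct, Fin.sum_univ_three, h1, hf.last]
      ring
    suffices hk : (chi σ D ![r, 1, 1] ⬝ᵥ ![v 0 + x, v 1, 1]) *
        (![η 0, η 1, η 2 - x * η 0] ⬝ᵥ ![r, 1, 1]) ∈ k by
      rw [hval] at hk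
      have := k.div_mem hk (k.neg_mem hf.mem)
      rwa [mul_div_cancel_left₀ _ (neg_ne_zero.2 hf.ne)] at this
    by_cases hp : ∃ a : F, (![v 0 + x, v 1, 1] : VV) = a • ![r, 1, 1]
    · obtain ⟨a, ha⟩ := hp
      rw [ha, dotProduct_smul, hw0.1, smul_zero, zero_mul]
      exact k.zero_mem
    push Not at hp
    exact (one_pair B.lines (B.uniq.opp hwne hchine hv' hη' hw0 h' hp)).1
  set u := v 0 - D * v 1 - σ r with hu
  set w := r - D' / v 1 - σ (v 0) with hw
  have huw : u * w ∈ k := by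
    convert prod 0 k.zero_mem using 1
    rw [hu, hw]; ring
  have hsub : w - u ∈ k := by
    have := k.add_mem (k.sub_mem (prod 1 k.one_mem) huw) k.one_mem
    convert this using 1
    rw [hu, hw]; ring
  have e1 : σ u * σ w = u * w := by rw [← map_mul]; exact (B.fix _).2 huw
  have e2 : σ w - σ u = w - u := by rw [← map_sub]; exact (B.fix _).2 hsub
  have hfac : (σ u - u) * (σ u + w) = 0 := by linear_combination e1 - σ u * e2
  have huu : σ (σ u) = u := by
    rcases mul_eq_zero.1 hfac with e | e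
    · have := sub_eq_zero.1 e; rw [this, this]
    · have e' : σ u = -w := eq_neg_of_add_eq_zero_left e
      rw [e', map_neg]
      linear_combination -e2 - e
  have hy : σ (σ (v 1)) = v 1 := by
    have : D * v 1 = v 0 - σ r - u := by rw [hu]; ring
    have := congrArg (fun z => σ (σ z)) this
    simp only [map_mul, map_sub, hσD, map_neg, neg_neg, hrr, huu, hf.quad] at this
    refine mul_left_cancel₀ hD ?_
    rw [this, hu]; ring
  refine ⟨hy, ?_⟩
  have hσu : σ u = σ (v 0) + D * σ (v 1) - r := by rw [hu, map_sub, map_sub, map_mul, hσD, hrr]; ring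
  rcases mul_eq_zero.1 hfac with e | e
  swap
  · left
    rw [hσu, hw] at e
    field_simp at e
    linear_combination -e
  have hσy : σ (v 1) ≠ 0 := (map_ne_zero σ).2 hv1
  have eu : D' + D - D * (v 1 + σ (v 1)) = 0 := by
    rw [hσu, hu] at e
    rw [hD'def, hDdef]
    linear_combination -e
  have ew : σ w = w := by linear_combination e2 + e
  rw [hw, map_sub, map_sub, map_div₀, hσD', hf.quad] at ew
  field_simp at ew
  have key : (v 1 + σ (v 1)) * (D' - D * (v 1 * σ (v 1))) = 0 := by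
    linear_combination ew + (v 1 * σ (v 1)) * eu + (v 1 * σ (v 1)) * hDdef * 0
  rcases mul_eq_zero.1 key with e' | e'
  · exact Or.inr e'
  · exact Or.inl (sub_eq_zero.1 e')

theorem Base.mid (B : Base G k σ r) {v η : VV} (hη : η ≠ 0) (h : Inc G v η) (hv2 : v 2 = 1)
    (hv1 : v 1 ≠ 0) :
    σ (σ (v 1)) = v 1 ∧ v 0 - σ (v 0) = (r - σ r) * (v 1 * σ (v 1)) := by
  obtain ⟨hy, hc⟩ := B.mid_cases hη h hv2 hv1
  refine ⟨hy, hc.elim id fun hT => ?_⟩
  have hf := B.toCtx.facts hη h hv2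
  have hoff := hf.off hv1
  have h0 : v 0 ≠ 0 := fun e => hoff (by rw [e, map_zero])
  obtain ⟨g, hg, hgv⟩ := B.toCtx.base0.2
  obtain ⟨t, ht, htv⟩ := (B.toCtx.root (k.neg_mem k.one_mem)).2.2
  have h' := ((h.conj hg).conj ht).conj hg
  have e : (g : MM) *ᵥ ((t : MM) *ᵥ ((g : MM) *ᵥ v)) = ![1, v 1, -v 0] := by
    rw [hgv, htv, one_mulVec', one_mulVec', one_mulVec']
    funext i
    fin_cases i <;> simp [ev, hv2] <;> ring
  rw [e] at h'
  have hneg : -v 0 ≠ 0 := neg_ne_zero.2 h0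
  have h'' := h'.scale (inv_mul_cancel₀ hneg)
  have hη' := smul_ne_zero hneg (GL_ne_zero_vecMul g⁻¹ (GL_ne_zero_vecMul t⁻¹ (GL_ne_zero_vecMul g⁻¹ hη)))
  obtain ⟨-, hc'⟩ := B.mid_cases hη' h'' (by simp [h0]) (by simp [h0, hv1])
  have hσ0 : σ (v 0) ≠ 0 := (map_ne_zero σ).2 h0
  have hσy : σ (v 1) = -v 1 := eq_neg_of_add_eq_zero_right hT
  rcases hc' with e1 | e1
  · simp at e1
    field_simp at e1
    linear_combination e1
  · exfalso
    simp [hσy] at e1
    field_simp at e1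
    apply hoff
    refine mul_left_cancel₀ hv1 ?_
    linear_combination -e1

/-- Every elation preserves the form. -/
theorem Base.form (B : Base G k σ r) {v η : VV} (h : Inc G v η) :
    ∃ (v' : VV) (c : F), c ∈ k ∧ (∀ i, σ (σ (v' i)) = v' i) ∧ chi σ (r - σ r) v' ⬝ᵥ v' = 0 ∧
      vecMulVec v η = vecMulVec (c • v') (chi σ (r - σ r) v') := by
  obtain ⟨hrr, hr, hroot⟩ := B.third_form
  by_cases hz : v = 0 ∨ η = 0
  · refine ⟨0, 0, k.zero_mem, fun i => by simp, by simp, ?_⟩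
    rcases hz with rfl | rfl <;> simp
  push Not at hz
  obtain ⟨hv, hη⟩ := hz
  by_cases hp : ∃ a : F, v = a • ev 0
  · obtain ⟨a, rfl⟩ := hp
    have ha : a ≠ 0 := fun e => hv (by rw [e, zero_smul])
    obtain ⟨b, hb⟩ := B.uniq.axis (ev 0) (ev 2) (a • η) (ev_ne 0) (ev_ne 2) B.toCtx.base0 (h.move ha)
    have hb0 : b ≠ 0 := fun e => smul_ne_zero ha hη (by rw [hb, e, zero_smul])
    refine ⟨ev 0, b, (B.std b).1.1 (Inc.smul_right (hb ▸ h.move ha) hb0), fun i => ?_, by simp [chi, ev], ?_⟩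
    · fin_cases i <;> simp [ev]
    · have hchi : chi σ (r - σ r) (ev 0) = ev 2 := by
        funext i; fin_cases i <;> simp [chi, ev]
      rw [hchi, smul_vecMulVec, ← vecMulVec_smul, hb, vecMulVec_smul, ← smul_vecMulVec]
  push Not at hp
  have hv2 : v 2 ≠ 0 := by
    simpa [ev] using (B.uniq.opp (ev_ne 0) (ev_ne 2) hv hη B.toCtx.base0 h hp).ha
  have h1 := h.scale (inv_mul_cancel₀ hv2)
  set w := (v 2)⁻¹ • v with hw
  set θ := v 2 • η with hθ
  have hθ0 : θ ≠ 0 := smul_ne_zero hv2 hη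
  have hw2 : w 2 = 1 := by simp [hw, hv2]
  have hvm : vecMulVec v η = vecMulVec w θ := by
    rw [hw, hθ, smul_vecMulVec, vecMulVec_smul, smul_smul, inv_mul_cancel₀ hv2, one_smul]
  have hf := B.toCtx.facts hθ0 h1 hw2
  refine ⟨w, -(θ 0), k.neg_mem hf.mem, ?_⟩
  have hm := hf.mid
  by_cases hw1 : w 1 = 0
  · have hr0 : σ (w 0) = w 0 := by
      rw [hw1, mul_zero] at hm
      rcases mul_eq_zero.1 (neg_eq_zero.1 hm.symm) with e | e
      · exact absurd e hf.ne
      · exact (sub_eq_zero.1 e).symm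
    have hwk := (B.fix _).1 hr0
    have hI := B.toCtx.shift B.toCtx.base2 hwk
    have e1 : (![(ev 2 : VV) 0 + w 0 * (ev 2 : VV) 2, (ev 2 : VV) 1, (ev 2 : VV) 2] : VV) = w := by
      funext i; fin_cases i <;> simp [ev, hw1, hw2]
    have e2 : (![(ev 0 : VV) 0, (ev 0 : VV) 1, (ev 0 : VV) 2 - w 0 * (ev 0 : VV) 0] : VV) = ![1, 0, -w 0] := by
      funext i; fin_cases i <;> simp [ev]
    rw [e1, e2] at hI
    have hne : (![1, 0, -w 0] : VV) ≠ 0 := fun e => one_ne_zero (α := F) (by simpa using congrFun e 0)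
    obtain ⟨b, hb⟩ := B.uniq.axis w _ θ (fun e => one_ne_zero (α := F) (by rw [← hw2, e, Pi.zero_apply])) hne hI h1
    have hθ1 : θ 1 = 0 := by rw [hb]; simp
    refine ⟨fun i => ?_, by simp [chi, dotProduct, Fin.sum_univ_three, hw1, hw2, hr0], ?_⟩
    · fin_cases i <;> simp [hf.quad, hw1, hw2]
    · rw [hvm]
      clear_value w θ
      rw [smul_vecMulVec, ← vecMulVec_smul]
      congr 1
      funext i
      fin_cases i <;> simp [chi, hw1, hw2, hθ1, hf.last]
  · obtain ⟨hy, hiso⟩ := B.mid hθ0 h1 hw2 hw1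
    refine ⟨fun i => ?_, ?_, ?_⟩
    · fin_cases i <;> simp [hf.quad, hy, hw2]
    · simp [chi, dotProduct, Fin.sum_univ_three, hw2]
      linear_combination -hiso
    · rw [hvm]
      clear_value w θ
      rw [smul_vecMulVec, ← vecMulVec_smul]
      congr 1
      have hθ1 : θ 1 = -(θ 0) * ((r - σ r) * σ (w 1)) := by
        refine mul_right_cancel₀ hw1 ?_
        rw [hm, hiso]; ring
      funext i
      fin_cases i <;> simp [chi, hw2, hθ1, hf.last]

theorem Base.unitary {k : Subfield F} {σ : F →+* F} {r : F} (hσ : ∀ x, σ x = x ^ Nat.card k)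
    (B : Base G k σ r) :
    ∃ (P : GG) (K : Subfield F) (q : ℕ), Nat.card K = q ^ 2 ∧ 3 ≤ q ∧
      conjG P (transGen G) = (Cfsg.GU 3 K q ⊓ Cfsg.Geo.specialLinear (Fin 3) K).map (subMap K) := by
  classical
  obtain ⟨hrr, hr, hroot⟩ := B.third_form
  set q := Nat.card k with hq
  have hq3 : 3 ≤ q := by
    obtain ⟨c, hc, h0, h1⟩ := B.lines.big
    let f : Fin 3 → k := ![0, 1, ⟨c, hc⟩]
    have hf : Function.Injective f := by
      intro i j e
      have e' := congrArg Subtype.val e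
      fin_cases i <;> fin_cases j <;> simp [f, h0, h1, Ne.symm h0, Ne.symm h1] at e' ⊢
    exact (Nat.card_fin 3).symm.le.trans (Nat.card_le_card_of_injective f hf)
  set K : Subfield F := RingHom.eqLocusField (σ.comp σ) (RingHom.id F) with hKdef
  have hK : ∀ x, x ∈ K ↔ σ (σ x) = x := fun x => Iff.rfl
  have hcard := card_fixed_sq hσ B.fix hrr hr K hK
  haveI : Fintype K := Fintype.ofFinite K
  have hK2 : Fintype.card K = q ^ 2 := by rw [← Nat.card_eq_fintype_card, hcard]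
  let σK : K →+* K := (σ.comp K.subtype).codRestrict K fun x => (hK _).2 (congrArg σ ((hK _).1 x.2))
  have hσK : ∀ x : K, ((σK x : K) : F) = σ x := fun x => rfl
  have hpow : ∀ x : K, powConj hK2 x = σK x := fun x => Subtype.ext (by
    rw [powConj_apply, hσK, hσ, SubmonoidClass.coe_pow])
  set D := r - σ r with hD
  have hσD : σ D = -D := by rw [hD, map_sub, hrr]; ring
  have hDK : D ∈ K := (hK _).2 (by rw [hσD, map_neg, hσD, neg_neg])
  have hD0 : D ≠ 0 := sub_ne_zero.2 (Ne.symm hr)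
  let DK : K := ⟨D, hDK⟩
  have hDK0 : DK ≠ 0 := fun e => hD0 (congrArg Subtype.val e)
  have hDσ : σK DK = -DK := Subtype.ext hσD
  have hinvol : ∀ a : K, σK (σK a) = a := fun a => Subtype.ext ((hK _).1 a.2)
  have hchi : ∀ v : Fin 3 → K, incl K (chi σK DK v) = chi σ D (incl K v) := fun v => by
    funext i; fin_cases i <;> simp [incl, chi, hσK, DK]
  let H : HermSpace K (Fin 3 → K) :=
    { σ := σK
      h := fun x z => DK * (chi σK DK z ⬝ᵥ x)
      conj := ⟨hinvol, ⟨⟨r, (hK r).2 hrr⟩, fun e => hr (congrArg Subtype.val e)⟩⟩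
      add_left := fun x y z => by rw [dotProduct_add, mul_add]
      smul_left := fun c x z => by rw [dotProduct_smul, smul_eq_mul, mul_left_comm]
      symm := fun x y => by
        simp [chi, dotProduct, Fin.sum_univ_three, hinvol, hDσ]
        ring
      nondeg := fun v hv => by
        have h0 := hv (Pi.single 0 1)
        have h1 := hv (Pi.single 1 1)
        have h2 := hv (Pi.single 2 1)
        simp [chi, hDK0] at h0 h1 h2
        funext i
        fin_cases i <;> simp [h0, h1, h2] }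
  obtain ⟨b, hb⟩ := H.exists_orthonormal
  let b' : Module.Basis (Fin 3) K (Fin 3 → K) := b.reindex (finCongr (Module.finrank_fin_fun K))
  have hb' : ∀ i j, H.h (b' i) (b' j) = if i = j then 1 else 0 := fun i j => by
    simp [b', Module.Basis.reindex_apply, hb]
  let L : (Fin 3 → K) ≃ₗ[K] (Fin 3 → K) := b'.equivFun
  have hL : ∀ x z, (stdHerm 3 hK2).h (L x) (L z) = H.h x z := fun x z => by
    rw [H.h_eq_sum b' hb' x z]
    show ∑ i, L x i * powConj hK2 (L z i) = _
    exact Finset.sum_congr rfl fun i _ => by rw [hpow]; rfl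
  let P : GG := subMap K (linToGL (Fin 3) K L)
  have hP : ∀ x : Fin 3 → K, (P : MM) *ᵥ incl K x = incl K (L x) := fun x => by
    rw [subMap_mulVec, linToGL_mulVec]
  have hev : ∀ i : Fin 3, incl K (ev i) = ev i := fun i => by
    funext l; simp [incl, ev, Pi.single_apply]; split <;> simp
  -- the functional
  have hfun : ∀ z : Fin 3 → K,
      chi σ D (incl K z) ᵥ* ((P⁻¹ : GG) : MM) = D⁻¹ • incl K (fun i => powConj hK2 (L z i)) := by
    intro z
    have key : (D⁻¹ • incl K (fun i => powConj hK2 (L z i))) ᵥ* (P : MM) = chi σ D (incl K z) := by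
      funext i
      have e1 : ((D⁻¹ • incl K (fun i => powConj hK2 (L z i))) ᵥ* (P : MM)) i =
          (D⁻¹ • incl K (fun i => powConj hK2 (L z i))) ⬝ᵥ ((P : MM) *ᵥ incl K (ev i)) := by
        rw [hev, dotProduct_mulVec]
        simp [ev]
      rw [e1, hP, smul_dotProduct, incl_dot, dotProduct_comm]
      have e2 : L (ev i) ⬝ᵥ (fun i => powConj hK2 (L z i)) = H.h (ev i) z := hL _ z
      rw [e2, smul_eq_mul, ← hchi]
      show D⁻¹ * ((DK * (chi σK DK z ⬝ᵥ ev i) : K) : F) = _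
      simp [incl, DK, ev, hD0]
    rw [← key, vecMul_vecMul, ← Units.val_mul, mul_inv_cancel, Units.val_one, vecMul_one]
  -- elations become root elements
  have root : ∀ (z : Fin 3 → K) (s : K) (hv : (stdHerm 3 hK2).h (L z) (L z) = 0)
      (hs : s + (stdHerm 3 hK2).σ s = 0),
      ((subMap K (unitToGL hK2 ((stdHerm 3 hK2).uT hv hs)) : GG) : MM) =
        1 + vecMulVec ((P : MM) *ᵥ ((((s : F) * D) • incl K z : VV))) (chi σ D (incl K z) ᵥ* ((P⁻¹ : GG) : MM)) := by
    intro z s hv hs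
    rw [subMap_val, unit_uT hK2, map_one_vecMulVec, mulVec_smul, hP, hfun, smul_vecMulVec, vecMulVec_smul,
      smul_smul, mul_assoc, mul_inv_cancel₀ hD0, mul_one, ← smul_vecMulVec]
    rfl
  have skew : ∀ s : K, s + (stdHerm 3 hK2).σ s = 0 → (s : F) * D ∈ k := fun s hs => by
    rw [← B.fix, map_mul, hσD]
    have e : s + σK s = 0 := by rwa [← hpow]
    have e' : (s : F) + σ s = 0 := congrArg Subtype.val e
    linear_combination -D * e'
  have hisod : ∀ z : Fin 3 → K, (stdHerm 3 hK2).h (L z) (L z) = 0 ↔ chi σ D (incl K z) ⬝ᵥ incl K z = 0 := by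
    intro z
    rw [hL, ← hchi, incl_dot]
    show DK * (chi σK DK z ⬝ᵥ z) = 0 ↔ _
    rw [mul_eq_zero, or_iff_right hDK0]
    exact ⟨fun h => by rw [h]; rfl, fun h => Subtype.ext h⟩
  set T := (Cfsg.GU 3 K q ⊓ Cfsg.Geo.specialLinear (Fin 3) K).map (subMap K) with hT
  have hmemT : ∀ g : (stdHerm 3 hK2).SIsom,
      unitToGL hK2 g.1 ∈ Cfsg.GU 3 K q ⊓ Cfsg.Geo.specialLinear (Fin 3) K := fun g =>
    ⟨range_unitToGL hK2 ▸ ⟨g.1, rfl⟩, MonoidHom.mem_ker.2 (by rw [det_unitToGL]; exact g.2)⟩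
  refine ⟨P, K, q, hcard, hq3, le_antisymm ?_ ?_⟩
  · rw [conjG, Subgroup.map_le_iff_le_comap, transGen, Subgroup.closure_le]
    rintro g ⟨hg, x, φ, h0, hv⟩
    obtain ⟨v, c, hc, hvK, hiso, hvm⟩ := B.form (⟨h0, g, hg, hv⟩ : Inc G x φ)
    let z : Fin 3 → K := fun i => ⟨v i, (hK _).2 (hvK i)⟩
    have hz : incl K z = v := rfl
    have hcK : c / D ∈ K := (hK _).2 (by
      rw [map_div₀, map_div₀, (B.fix c).2 hc, (B.fix c).2 hc, hσD, map_neg, hσD, neg_neg])
    have hs : (⟨c / D, hcK⟩ : K) + (stdHerm 3 hK2).σ ⟨c / D, hcK⟩ = 0 := by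
      show (⟨c / D, hcK⟩ : K) + powConj hK2 ⟨c / D, hcK⟩ = 0
      rw [hpow]
      refine Subtype.ext ?_
      show c / D + σ (c / D) = 0
      rw [map_div₀, (B.fix c).2 hc, hσD, div_neg, add_neg_cancel]
    have hiso' : (stdHerm 3 hK2).h (L z) (L z) = 0 := (hisod z).2 hiso
    refine SetLike.mem_coe.2 (Subgroup.mem_comap.2 (Subgroup.mem_map.2
      ⟨_, hmemT ⟨_, (stdHerm 3 hK2).uT_mem_SIsom hiso' hs⟩, Units.ext ?_⟩))
    rw [root z _ hiso' hs]
    show _ = ((P * g * P⁻¹ : GG) : MM)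
    rw [Units.val_mul, Units.val_mul, hv, hvm, mul_add, mul_one, add_mul, mul_vecMulVec, vecMulVec_mul,
      ← Units.val_mul, mul_inv_cancel, Units.val_one, hz]
    simp [div_mul_cancel₀ _ hD0, ← hD]
  · -- three full root groups
    set f : (stdHerm 3 hK2).SIsom →* GG :=
      (subMap K).comp ((unitToGL hK2).comp (stdHerm 3 hK2).SIsom.subtype) with hf
    set S := (conjG P (transGen G)).comap f with hS
    have hcen : ∀ z : Fin 3 → K, chi σ D (incl K z) ⬝ᵥ incl K z = 0 →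
        (∀ c ∈ k, Inc G (c • incl K z) (chi σ D (incl K z))) → L z ∈ (stdHerm 3 hK2).uCentres S := by
      intro z hz hI
      refine ⟨(hisod z).2 hz, fun s hs => Subgroup.mem_comap.2 ?_⟩
      obtain ⟨t, ht, htv⟩ := (inc_conjG (P := P) (inc_transGen.2 (hI _ (skew s hs)))).2
      convert ht using 1
      refine Units.ext ?_
      rw [htv, ← root z s ((hisod z).2 hz) hs]
      rfl
    have hinclev : ∀ (c : F) (i : Fin 3), c • incl K (ev i) = c • ev i := fun c i => by rw [hev]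
    have hc0 : L (ev 0) ∈ (stdHerm 3 hK2).uCentres S := by
      refine hcen _ (by rw [hev]; simp [chi, ev]) fun c hc => ?_
      rw [hev, show chi σ D (ev 0) = ev 2 by funext i; fin_cases i <;> simp [chi, ev]]
      exact (B.toCtx.root hc).1
    have hc2 : L (ev 2) ∈ (stdHerm 3 hK2).uCentres S := by
      refine hcen _ (by rw [hev]; simp [chi, ev]) fun c hc => ?_
      rw [hev, show chi σ D (ev 2) = -(ev 0) by funext i; fin_cases i <;> simp [chi, ev]]
      exact Inc.neg' (B.toCtx.root hc).2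
    let wK : Fin 3 → K := ![⟨r, (hK r).2 hrr⟩, 1, 1]
    have hwK : incl K wK = ![r, 1, 1] := by
      funext i; fin_cases i <;> simp [incl, wK]
    have hcw : L wK ∈ (stdHerm 3 hK2).uCentres S := by
      refine hcen _ ?_ fun c hc => ?_
      · rw [hwK]; simp [chi, dotProduct, Fin.sum_univ_three, hD]; ring
      · rw [hwK]; exact (hroot c).2 hc
    have hne : (stdHerm 3 hK2).h (L (ev 0)) (L (ev 2)) ≠ 0 := by
      rw [hL]
      show DK * _ ≠ 0
      simp [chi, ev, hDK0]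
    have hd : Module.finrank K (Fin 3 → K) = 3 := Module.finrank_fin_fun K
    obtain ⟨Fr, hFe, a, ha, hFf⟩ := SUThree.exists_frame_pair hd (HermSpace.uCentres_iso hc0)
      (HermSpace.uCentres_iso hc2) hne
    have hxw : (stdHerm 3 hK2).h (L wK) Fr.w ≠ 0 := fun h0 => by
      have hdec := decomp hd Fr (L wK)
      rw [h0, zero_smul, add_zero, hFe, hFf, ← map_smul, ← map_smul, ← map_smul, ← map_add] at hdec
      have := congrFun (L.injective hdec) 1
      simp [wK, ev] at this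
    have htop : S = ⊤ := SUThree.top_of_triangle hd (by rw [stdHerm_q]; exact hq3) Fr (hFe ▸ hc0)
      (hFf ▸ HermSpace.uCentres_smul hc2 a) hcw hxw
    rintro _ ⟨A, ⟨hA1, hA2⟩, rfl⟩
    obtain ⟨g, rfl⟩ : A ∈ (unitToGL hK2).range := by rwa [range_unitToGL]
    have hg : g ∈ (stdHerm 3 hK2).SIsom := by
      rw [HermSpace.SIsom, MonoidHom.mem_ker, ← det_unitToGL]
      exact hA2
    exact Subgroup.mem_comap.1 (htop ▸ Subgroup.mem_top (⟨g, hg⟩ : (stdHerm 3 hK2).SIsom) :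
      (⟨g, hg⟩ : (stdHerm 3 hK2).SIsom) ∈ S)

/-- Recognition in characteristic two from a large parameter set. -/
theorem recognition [CharP F 2] (hirr : Irr G) {x φ : VV} (hx : x ≠ 0) (hφ : φ ≠ 0) (h : Inc G x φ) (hL : Lines G k) :
    (∃ (P : GG) (k : Subfield F),
        conjG P (transGen G) = (Cfsg.Geo.specialLinear (Fin 3) k).map (subMap k)) ∨
      (∃ (P : GG) (K : Subfield F) (q : ℕ), Nat.card K = q ^ 2 ∧ 3 ≤ q ∧
        conjG P (transGen G) = (Cfsg.GU 3 K q ⊓ Cfsg.Geo.specialLinear (Fin 3) K).map (subMap K)) := by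
  by_cases hM : Many G
  · exact Or.inl (many_linear hL hirr hM)
  refine Or.inr ?_
  obtain ⟨P, σ, r, hσ, B⟩ := exists_base hL hirr (one2one_of_not_many hL hirr hM) hx hφ h
  obtain ⟨Q, K, q, h1, h3, e⟩ := B.unitary hσ
  refine ⟨Q * P, K, q, h1, h3, ?_⟩
  rw [← e, transGen_conjG, conjG, conjG, conjG, Subgroup.map_map]
  congr 1
  ext g
  simp [mul_assoc]

end Cfsg.Lib.MitchellThree.Residual.Even
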