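import Cfsg.Agent.MitchellThree.Elation.Basic

/-!
Involutions in characteristic two when every incident pair carries a single elation: commuting elations, square roots,
and centralisers.
-/

set_option autoImplicit false
set_option linter.unusedSectionVars false
set_option linter.unusedSimpArgs false
set_option linter.style.haveILetI false

namespace Cfsg.Lib.MitchellThree.Residual.Even

open Matrix Cfsg.Lib.Classical Cfsg.Lib.Classical.LinOne Cfsg.Lib.Classical.SLThree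
  Cfsg.Lib.Classical.SLThree.Elation Cfsg.Lib.Classical.SLThree.Singer Cfsg.Lib.MitchellThree.Elation
open scoped MatrixGroups

universe u

variable {F : Type u} [Field F] {G : Subgroup (GL (Fin 3) F)}

local notation "MM" => Matrix (Fin 3) (Fin 3) F
local notation "GG" => GL (Fin 3) F
local notation "VV" => (Fin 3 → F)

/-- Each incident pair carries one elation. -/
def Small (G : Subgroup (GL (Fin 3) F)) : Prop :=
  ∀ (x φ : Fin 3 → F) (c : F), x ≠ 0 → φ ≠ 0 → Inc G x φ → Inc G (c • x) φ → c = 0 ∨ c = 1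

/-- Another centre on the axis. -/
def MoreC (G : Subgroup (GL (Fin 3) F)) (x φ : Fin 3 → F) : Prop :=
  ∃ u, Inc G u φ ∧ ∀ a : F, u ≠ a • x

/-- Another axis through the centre. -/
def MoreA (G : Subgroup (GL (Fin 3) F)) (x φ : Fin 3 → F) : Prop :=
  ∃ χ, Inc G x χ ∧ ∀ a : F, χ ≠ a • φ

/-- Exactly one further class of centres on the axis. -/
def OneClass (G : Subgroup (GL (Fin 3) F)) (x φ u : Fin 3 → F) : Prop :=
  Inc G u φ ∧ (∀ a : F, u ≠ a • x) ∧ ∀ v, Inc G v φ → v = 0 ∨ v = x ∨ v = u ∨ v = u + x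

theorem outer_eq_zero {x φ : VV} (h : vecMulVec x φ = 0) : x = 0 ∨ φ = 0 := by
  by_contra hc
  push Not at hc
  obtain ⟨i, hi⟩ := Function.ne_iff.1 hc.1
  obtain ⟨j, hj⟩ := Function.ne_iff.1 hc.2
  have := congrFun (congrFun h i) j
  rw [Matrix.vecMulVec_apply, Matrix.zero_apply] at this
  exact mul_ne_zero hi hj this

theorem el_mul {u v φ : VV} (h : φ ⬝ᵥ v = 0) :
    (1 + vecMulVec u φ) * (1 + vecMulVec v φ) = 1 + vecMulVec (u + v) φ := by
  rw [one_mul_one, h, zero_smul, zero_vecMulVec, add_zero, add_vecMulVec, add_assoc]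

/-- A map killing two independent vectors of an axis is a multiple of it. -/
theorem outer_of_kills {N : MM} {φ x u : VV} (hφ : φ ≠ 0) (hx : x ≠ 0) (hφx : φ ⬝ᵥ x = 0) (hφu : φ ⬝ᵥ u = 0)
    (hu : ∀ a : F, u ≠ a • x) (hNx : N *ᵥ x = 0) (hNu : N *ᵥ u = 0) : ∃ w, N = vecMulVec w φ := by
  have hu' : u ∉ Submodule.span F ({x} : Set VV) := fun h => by
    obtain ⟨a, ha⟩ := Submodule.mem_span_singleton.1 h
    exact hu a ha.symm
  obtain ⟨v, -, hv⟩ := exists_dot (S := ⊥) (ψ := φ) (by simpa using hφ)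
  refine ⟨N *ᵥ v, Matrix.ext_of_mulVec_single fun j => ?_⟩
  set z : VV := Pi.single j 1
  obtain ⟨a, b, hab⟩ := mem_span_pair hφ hφx hφu
    (show φ ⬝ᵥ (z - (φ ⬝ᵥ z) • v) = 0 by rw [dotProduct_sub, dotProduct_smul, hv, smul_eq_mul, mul_one, sub_self])
    hx hu'
  have h0 : N *ᵥ (z - (φ ⬝ᵥ z) • v) = 0 := by
    rw [← hab, mulVec_add, mulVec_smul, mulVec_smul, hNx, hNu, smul_zero, smul_zero, add_zero]
  rw [mulVec_sub, mulVec_smul, sub_eq_zero] at h0
  rw [h0, vecMulVec_mulVec, op_smul_eq_smul]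

/-- An element commuting with an elation scales centre and axis alike. -/
theorem commute_fix {g e : GG} {x φ : VV} (hx : x ≠ 0) (hφ : φ ≠ 0) (he : (e : MM) = 1 + vecMulVec x φ)
    (hc : Commute g e) : ∃ l : F, l ≠ 0 ∧ (g : MM) *ᵥ x = l • x ∧ φ ᵥ* (g : MM) = l • φ := by
  have h := congrArg Units.val hc.eq
  rw [Units.val_mul, Units.val_mul, he, mul_add, mul_one, add_mul, one_mul, add_right_inj, mul_vecMulVec,
    vecMulVec_mul] at h
  obtain ⟨j, hj⟩ := Function.ne_iff.1 hφ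
  have h1 : (g : MM) *ᵥ x = ((φ ᵥ* (g : MM)) j / φ j) • x := by
    funext i
    have e1 := congrFun (congrFun h i) j
    rw [vecMulVec_apply, vecMulVec_apply] at e1
    rw [Pi.smul_apply, smul_eq_mul, div_mul_eq_mul_div, eq_div_iff hj, e1, mul_comm]
  refine ⟨_, fun e0 => GL_ne_zero_mulVec g hx (by rw [h1, e0, zero_smul]), h1, ?_⟩
  obtain ⟨i, hi⟩ := Function.ne_iff.1 hx
  funext k
  have e1 := congrFun (congrFun h i) k
  rw [vecMulVec_apply, vecMulVec_apply, h1, Pi.smul_apply, smul_eq_mul, mul_comm _ (x i), mul_assoc] at e1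
  rw [Pi.smul_apply, smul_eq_mul]
  exact (mul_left_cancel₀ hi e1).symm

theorem inv_fix {g : GG} {φ : VV} {l : F} (hl : l ≠ 0) (h : φ ᵥ* (g : MM) = l • φ) :
    φ ᵥ* ((g⁻¹ : GG) : MM) = l⁻¹ • φ := by
  have := congrArg (fun z => l⁻¹ • (z ᵥ* ((g⁻¹ : GG) : MM))) h
  simp only [vecMul_vecMul, ← Units.val_mul, mul_inv_cancel, Units.val_one, vecMul_one, smul_vecMul,
    smul_smul, inv_mul_cancel₀ hl, one_smul] at this
  exact this.symm

section two

variable [CharP F 2]

theorem add_self_vec (v : VV) : v + v = 0 := funext fun _ => CharTwo.add_self_eq_zero _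

theorem add_self_mat (A : MM) : A + A = 0 := Matrix.ext fun _ _ => CharTwo.add_self_eq_zero _

theorem one_of_pow_four {l : F} (h : l ^ 4 = 1) : l = 1 := by
  have h2 : (2 : F) = 0 := by exact_mod_cast CharP.cast_eq_zero F 2
  have : (l - 1) ^ 4 = 0 := by linear_combination h - (2 * l ^ 3 - 3 * l ^ 2 + 2 * l - 1) * h2
  exact sub_eq_zero.1 (pow_eq_zero_iff (by norm_num) |>.1 this)

theorem el_sq {g : GG} {x φ : VV} (h : φ ⬝ᵥ x = 0) (hg : (g : MM) = 1 + vecMulVec x φ) : g * g = 1 :=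
  Units.ext (by rw [Units.val_mul, hg, el_mul h, add_self_vec, zero_vecMulVec, add_zero]; rfl)

/-- An involution is an elation. -/
theorem exists_el [Fintype F] (hdet : ∀ g ∈ G, (g : MM).det = 1) {g : GG} (hg : g ∈ G) (h2 : g * g = 1)
    (h1 : g ≠ 1) : ∃ x φ : VV, x ≠ 0 ∧ φ ≠ 0 ∧ Inc G x φ ∧ (g : MM) = 1 + vecMulVec x φ := by
  have h20 : (2 : F) = 0 := by exact_mod_cast CharP.cast_eq_zero F 2
  obtain ⟨w, η, hw, hη, ⟨-, h0, hv⟩ | ⟨h, -⟩⟩ := involution_form (hdet g hg) h2 h1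
  · exact ⟨w, η, hw, hη, ⟨h0, g, hg, hv⟩, hv⟩
  · exact absurd h20 h

variable [Fintype F]

/-- Commuting elations share centre or axis. -/
theorem commute_cases (hdet : ∀ g ∈ G, (g : MM).det = 1) {g h : GG} {x φ y ψ : VV} (hgG : g ∈ G) (hhG : h ∈ G)
    (hx : x ≠ 0) (hφ : φ ≠ 0) (hy : y ≠ 0) (hψ : ψ ≠ 0) (h1 : φ ⬝ᵥ x = 0) (h2 : ψ ⬝ᵥ y = 0)
    (hg : (g : MM) = 1 + vecMulVec x φ) (hh : (h : MM) = 1 + vecMulVec y ψ) (hc : Commute g h) :
    (∃ a : F, ψ = a • φ) ∨ ∃ a : F, y = a • x := by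
  by_contra hne
  push Not at hne
  obtain ⟨hψφ, hyx⟩ := hne
  have e := congrArg Units.val hc.eq
  rw [Units.val_mul, Units.val_mul, hg, hh, one_mul_one, one_mul_one, add_assoc 1 (vecMulVec y ψ) (vecMulVec x φ),
    add_comm (vecMulVec y ψ) (vecMulVec x φ), ← add_assoc 1, add_right_inj] at e
  have ha : φ ⬝ᵥ y = 0 := by
    by_contra ha
    by_cases hb : ψ ⬝ᵥ x = 0
    · rw [hb, zero_smul, zero_vecMulVec] at e
      rcases outer_eq_zero e with h' | h'
      · exact hx ((smul_eq_zero.1 h').resolve_left ha)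
      · exact hψ h'
    obtain ⟨j, hj⟩ := Function.ne_iff.1 hφ
    obtain ⟨i, hi⟩ := Function.ne_iff.1 hx
    -- compare a column
    refine hyx ((φ ⬝ᵥ y) * ψ j / ((ψ ⬝ᵥ x) * φ j)) (funext fun k => ?_)
    have e1 := congrFun (congrFun e k) j
    simp only [vecMulVec_apply, Pi.smul_apply, smul_eq_mul] at e1 ⊢
    rw [div_mul_eq_mul_div, eq_div_iff (mul_ne_zero hb hj)]
    linear_combination -e1
  rw [ha, zero_smul, zero_vecMulVec] at e
  have hb : ψ ⬝ᵥ x = 0 := by
    rcases outer_eq_zero e.symm with h' | h'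
    · exact (smul_eq_zero.1 h').resolve_right hy
    · exact absurd h' hφ
  -- the product has rank at most one
  have hp : ((g * h : GG) : MM) = 1 + (vecMulVec x φ + vecMulVec y ψ) := by
    rw [Units.val_mul, hg, hh, one_mul_one, ha, zero_smul, zero_vecMulVec, add_zero, add_assoc]
  obtain ⟨w, η, hwη⟩ : ∃ w η : VV, vecMulVec x φ + vecMulVec y ψ = vecMulVec w η := by
    by_cases hgh : g * h = 1
    · exact ⟨0, 0, by rw [hgh, Units.val_one, left_eq_add] at hp; rw [hp, zero_vecMulVec]⟩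
    · obtain ⟨w, η, -, -, -, hv⟩ := exists_el hdet (G.mul_mem hgG hhG) (by
        rw [hc.symm.mul_mul_mul_comm, el_sq h1 hg, el_sq h2 hh, one_mul]) hgh
      exact ⟨w, η, add_left_cancel (hp.symm.trans hv)⟩
  have hl : ψ ∉ Submodule.span F ({φ} : Set VV) := fun h' => by
    obtain ⟨a, ha'⟩ := Submodule.mem_span_singleton.1 h'
    exact hψφ a ha'.symm
  have hr : φ ∉ Submodule.span F ({ψ} : Set VV) := fun h' => by
    obtain ⟨a, ha'⟩ := Submodule.mem_span_singleton.1 h'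
    have : a ≠ 0 := by rintro rfl; exact hφ (by rw [← ha', zero_smul])
    exact hψφ a⁻¹ (by rw [← ha', inv_smul_smul₀ this])
  obtain ⟨v, hv, hv1⟩ := exists_dot hl
  obtain ⟨v', hv', hv1'⟩ := exists_dot hr
  have key : ∀ z, (φ ⬝ᵥ z) • x + (ψ ⬝ᵥ z) • y = (η ⬝ᵥ z) • w := fun z => by
    have := congrArg (· *ᵥ z) hwη
    simpa [add_mulVec, vecMulVec_mulVec, op_smul_eq_smul] using this
  have ey : y = (η ⬝ᵥ v) • w := by
    simpa [hv φ (Submodule.mem_span_singleton_self φ), hv1] using key v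
  have ex : x = (η ⬝ᵥ v') • w := by
    simpa [hv' ψ (Submodule.mem_span_singleton_self ψ), hv1'] using key v'
  have h0 : η ⬝ᵥ v' ≠ 0 := fun h' => hx (by rw [ex, h', zero_smul])
  exact hyx ((η ⬝ᵥ v) / (η ⬝ᵥ v')) (by rw [ex, smul_smul, div_mul_cancel₀ _ h0, ← ey])

/-- If the centre carries one axis, everything commuting with the elation has that axis. -/
theorem axis_of_commute (hdet : ∀ g ∈ G, (g : MM).det = 1) {g h : GG} {x φ : VV}
    (hgG : g ∈ G) (hhG : h ∈ G) (hx : x ≠ 0) (hφ : φ ≠ 0) (hI : φ ⬝ᵥ x = 0)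
    (hg : (g : MM) = 1 + vecMulVec x φ) (hA : ¬ MoreA G x φ) (hh : h * h = 1) (hc : Commute g h) :
    ∃ u, Inc G u φ ∧ (h : MM) = 1 + vecMulVec u φ := by
  rcases eq_or_ne h 1 with rfl | h1
  · exact ⟨0, ⟨dotProduct_zero _, 1, G.one_mem, by simp⟩, by simp⟩
  obtain ⟨y, ψ, hy, hψ, hIy, hhv⟩ := exists_el hdet hhG hh h1
  have done : ∀ a : F, ψ = a • φ → ∃ u, Inc G u φ ∧ (h : MM) = 1 + vecMulVec u φ := fun a e => by
    subst e
    exact ⟨a • y, Inc.smul_right hIy (left_ne_zero_of_smul hψ), by rw [hhv, vecMulVec_smul, smul_vecMulVec]⟩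
  rcases commute_cases hdet hgG hhG hx hφ hy hψ hI hIy.1 hg hhv hc with ⟨a, e⟩ | ⟨a, e⟩
  · exact done a e
  · subst e
    by_contra hne
    refine hA ⟨a • ψ, hIy.move (left_ne_zero_of_smul hy), fun b e => hne (done (a⁻¹ * b) ?_)⟩
    rw [mul_smul, ← e, inv_smul_smul₀ (left_ne_zero_of_smul hy)]

/-! Duality. -/

theorem det_dual (hdet : ∀ g ∈ G, (g : MM).det = 1) : ∀ g ∈ G.map dualHom, (g : MM).det = 1 := by
  rintro _ ⟨g, hg, rfl⟩
  rw [dualHom_val, det_transpose]
  exact hdet _ (G.inv_mem hg)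

theorem Small.dual (hs : Small G) : Small (G.map dualHom) := fun φ x c hφ hx h h' => by
  rcases eq_or_ne c 0 with hc | hc
  · exact Or.inl hc
  exact hs x φ c hx hφ (inc_dual_iff.1 h) (Inc.smul_right (inc_dual_iff.1 h') hc)

theorem moreC_dual {x φ : VV} : MoreC (G.map dualHom) φ x ↔ MoreA G x φ :=
  exists_congr fun _ => and_congr_left' inc_dual_iff

theorem moreA_dual {x φ : VV} : MoreA (G.map dualHom) φ x ↔ MoreC G x φ :=
  exists_congr fun _ => and_congr_left' inc_dual_iff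

omit [CharP F 2] in
theorem dual_inj : Function.Injective (dualHom (F := F)) := Function.LeftInverse.injective dualHom_dual

theorem dual_el {g : GG} {x φ : VV} (h : φ ⬝ᵥ x = 0) (hg : (g : MM) = 1 + vecMulVec x φ) :
    ((dualHom g : GG) : MM) = 1 + vecMulVec φ x := by
  rw [dualHom_val, inv_eq_of_mul_eq_one_left (el_sq h hg), hg, transpose_add, transpose_one, transpose_vecMulVec]

/-- Commuting is transitive through an elation not carrying both further centres and axes. -/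
theorem commute_trans (hdet : ∀ g ∈ G, (g : MM).det = 1) {g i j : GG} {x φ : VV}
    (hgG : g ∈ G) (hiG : i ∈ G) (hjG : j ∈ G) (hx : x ≠ 0) (hφ : φ ≠ 0) (hI : φ ⬝ᵥ x = 0)
    (hg : (g : MM) = 1 + vecMulVec x φ) (hn : ¬ (MoreC G x φ ∧ MoreA G x φ)) (hi : i * i = 1) (hj : j * j = 1)
    (hgi : Commute g i) (hgj : Commute g j) : Commute i j := by
  have key : ∀ {H : Subgroup GG} {g i j : GG} {x φ : VV}, (∀ k ∈ H, (k : MM).det = 1) → g ∈ H → i ∈ H → j ∈ H →
      x ≠ 0 → φ ≠ 0 → φ ⬝ᵥ x = 0 → (g : MM) = 1 + vecMulVec x φ → ¬ MoreA H x φ → i * i = 1 → j * j = 1 →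
      Commute g i → Commute g j → Commute i j := by
    intro H g i j x φ hdet hgG hiG hjG hx hφ hI hg hA hi hj hgi hgj
    obtain ⟨u, hu, hui⟩ := axis_of_commute hdet hgG hiG hx hφ hI hg hA hi hgi
    obtain ⟨w, hw, hwj⟩ := axis_of_commute hdet hgG hjG hx hφ hI hg hA hj hgj
    exact Units.ext (by rw [Units.val_mul, Units.val_mul, hui, hwj, el_mul hw.1, el_mul hu.1, add_comm u w])
  by_cases hA : MoreA G x φ
  · have hd : ¬ MoreA (G.map dualHom) φ x := fun h => hn ⟨moreA_dual.1 h, hA⟩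
    have hh := key (H := G.map dualHom) (i := dualHom i) (j := dualHom j) (det_dual hdet)
      (Subgroup.mem_map_of_mem _ hgG) (Subgroup.mem_map_of_mem _ hiG) (Subgroup.mem_map_of_mem _ hjG) hφ hx
      (by rw [dotProduct_comm]; exact hI) (dual_el hI hg) hd (by rw [← map_mul, hi, map_one])
      (by rw [← map_mul, hj, map_one]) (hgi.map _) (hgj.map _)
    exact dual_inj (by rw [map_mul, map_mul]; exact hh.eq)
  · exact key hdet hgG hiG hjG hx hφ hI hg hA hi hj hgi hgj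

/-- An elation with one axis through its centre and a further centre has no square root. -/
theorem no_sqrt_axis (hdet : ∀ g ∈ G, (g : MM).det = 1) (hs : Small G) {t g : GG} {x φ : VV} (htG : t ∈ G)
    (hgG : g ∈ G) (hx : x ≠ 0) (hφ : φ ≠ 0) (hI : φ ⬝ᵥ x = 0) (ht : (t : MM) = 1 + vecMulVec x φ)
    (hC : MoreC G x φ) (hA : ¬ MoreA G x φ) : g * g ≠ t := by
  intro hg
  obtain ⟨u, hu, hux⟩ := hC
  have hgt : Commute g t := hg ▸ (Commute.refl g).mul_right (Commute.refl g)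
  obtain ⟨l, hl, hgx, hφg⟩ := commute_fix hx hφ ht hgt
  have htx : (t : MM) *ᵥ x = x := by rw [ht, one_mulVec', hI, zero_smul, add_zero]
  have hl1 : l = 1 := one_of_pow_four (by
    have h1 : ((g * g : GG) : MM) *ᵥ x = (l * l) • x := by
      rw [Units.val_mul, ← mulVec_mulVec, hgx, mulVec_smul, hgx, smul_smul]
    rw [hg, htx] at h1
    have : l * l = 1 := by
      obtain ⟨i, hi⟩ := Function.ne_iff.1 hx
      have := congrFun h1 i
      rw [Pi.smul_apply, smul_eq_mul] at this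
      exact mul_right_cancel₀ hi (this.symm.trans (one_mul _).symm)
    linear_combination (l * l + 1) * this)
  rw [hl1, one_smul] at hgx hφg
  set N : MM := (g : MM) - 1 with hN
  have hN2 : N * N = vecMulVec x φ := by
    have h2 : (2 : MM) = 0 := by rw [← one_add_one_eq_two]; exact add_self_mat 1
    calc N * N = ((g * g : GG) : MM) - 2 * (g : MM) + 1 := by rw [Units.val_mul, hN]; noncomm_ring
      _ = _ := by rw [hg, ht, h2, zero_mul, sub_zero, add_comm 1 (vecMulVec x φ), add_assoc, add_self_mat 1,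
                    add_zero]
  have hne : vecMulVec x φ ≠ 0 := fun h => (outer_eq_zero h).elim hx hφ
  have hNx : N *ᵥ x = 0 := by rw [hN, sub_mulVec, one_mulVec, hgx, sub_self]
  have hφN : φ ᵥ* N = 0 := by rw [hN, vecMul_sub, vecMul_one, hφg, sub_self]
  have nokill : ∀ z, φ ⬝ᵥ z = 0 → (∀ a : F, z ≠ a • x) → N *ᵥ z ≠ 0 := fun z hz hzx h0 => by
    obtain ⟨w, hw⟩ := outer_of_kills hφ hx hI hz hzx hNx h0
    refine hne ?_
    rw [← hN2]
    have : vecMulVec (N *ᵥ w) φ = N * N := by rw [← mul_vecMulVec, ← hw]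
    have hw0 : φ ⬝ᵥ w = 0 := by
      have := hφN
      rw [hw, vecMul_vecMulVec] at this
      exact (smul_eq_zero.1 this).resolve_right hφ
    rw [hw, vecMulVec_mul_vecMulVec, hw0, zero_smul, vecMulVec_zero]
  have hφNu : φ ⬝ᵥ (N *ᵥ u) = 0 := by rw [dotProduct_mulVec, hφN, zero_dotProduct]
  obtain ⟨c, hc⟩ : ∃ c : F, N *ᵥ u = c • x := by
    by_contra hne'
    push Not at hne'
    refine nokill _ hφNu hne' ?_
    rw [mulVec_mulVec, hN2, vecMulVec_mulVec, op_smul_eq_smul, hu.1, zero_smul]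
  have hc0 : c ≠ 0 := fun h => nokill u hu.1 hux (by rw [hc, h, zero_smul])
  have hgu : (g : MM) *ᵥ u = u + c • x := by
    rw [← hc, hN, sub_mulVec, one_mulVec, add_sub_cancel]
  have hginv : φ ᵥ* ((g⁻¹ : GG) : MM) = φ := by
    simpa using inv_fix one_ne_zero (hφg.trans (one_smul F φ).symm)
  have hIc := hu.conj hgG
  rw [hgu, hginv] at hIc
  have hcx : Inc G (c • x) φ := by
    simpa using mem_Bgp.1 ((Bgp G φ).sub_mem (mem_Bgp.2 hIc) (mem_Bgp.2 hu))
  rcases hs x φ c hx hφ ⟨hI, t, htG, ht⟩ hcx with h | hc1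
  · exact hc0 h
  rw [hc1, one_smul] at hgu
  obtain ⟨hu1, e, heG, hev⟩ := hu
  have hge : g * e = t * e * g := by
    refine Units.ext ?_
    rw [Units.val_mul, Units.val_mul, Units.val_mul, ht, hev, mul_add, mul_one, mul_vecMulVec, hgu,
      el_mul hu1, add_mul, one_mul, vecMulVec_mul, hφg, add_comm u x]
  have hte : Commute t e := Units.ext (by
    rw [Units.val_mul, Units.val_mul, ht, hev, el_mul hu1, el_mul hI, add_comm x u])
  have he2 : e * e = 1 := el_sq hu1 hev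
  have ht2 : t * t = 1 := el_sq hI ht
  have hh : (g * e) * (g * e) = 1 := by
    calc g * e * (g * e) = t * e * g * (g * e) := by rw [← hge]
      _ = t * e * (g * g) * e := by group
      _ = t * (e * t) * e := by rw [hg]; group
      _ = (t * t) * (e * e) := by rw [← hte.eq]; group
      _ = 1 := by rw [ht2, he2, one_mul]
  obtain ⟨w, hw, hwv⟩ := axis_of_commute hdet htG (G.mul_mem hgG heG) hx hφ hI ht hA hh (hgt.symm.mul_right hte)
  have hwe : Commute (g * e) e := Units.ext (by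
    simp only [Units.val_mul] at hwv ⊢
    rw [hwv, hev, el_mul hu1, el_mul hw.1, add_comm w u])
  have : g * g = 1 := by
    rw [show g = g * e * e by rw [mul_assoc, he2, mul_one], hwe.symm.mul_mul_mul_comm, hh, he2, one_mul]
  rw [hg] at this
  refine hne ?_
  have := congrArg Units.val this
  rw [ht, Units.val_one] at this
  exact add_left_cancel (this.trans (add_zero (1 : MM)).symm)

/-- Without both further centres and axes there is no square root. -/
theorem no_sqrt (hdet : ∀ g ∈ G, (g : MM).det = 1) (hs : Small G) {t g : GG} {x φ : VV} (htG : t ∈ G)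
    (hgG : g ∈ G) (hx : x ≠ 0) (hφ : φ ≠ 0) (hI : φ ⬝ᵥ x = 0) (ht : (t : MM) = 1 + vecMulVec x φ)
    (hor : MoreC G x φ ∨ MoreA G x φ) (hn : ¬ (MoreC G x φ ∧ MoreA G x φ)) : g * g ≠ t := by
  rcases hor with h | h
  · exact no_sqrt_axis hdet hs htG hgG hx hφ hI ht h fun h' => hn ⟨h, h'⟩
  · intro e
    exact no_sqrt_axis (det_dual hdet) hs.dual (Subgroup.mem_map_of_mem _ htG) (Subgroup.mem_map_of_mem _ hgG) hφ hx
      (by rw [dotProduct_comm]; exact hI) (dual_el hI ht) (moreC_dual.2 h)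
      (fun h' => hn ⟨moreA_dual.1 h', h⟩) (by rw [← map_mul, e])

/-! Centralisers. -/

/-- With one further class of centres the fourth power of a commuting element is a scalar. -/
theorem pow_four_scalar {t g : GG} {x φ u : VV} (hgG : g ∈ G) (hx : x ≠ 0) (hφ : φ ≠ 0) (hI : φ ⬝ᵥ x = 0)
    (ht : (t : MM) = 1 + vecMulVec x φ) (h1 : OneClass G x φ u) (hc : Commute g t) :
    g ^ 4 ∈ Cfsg.Geo.scalars (Fin 3) F := by
  obtain ⟨hu, hux, hall⟩ := h1
  obtain ⟨l, hl, hgx, hφg⟩ := commute_fix hx hφ ht hc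
  obtain ⟨ε, hgu⟩ : ∃ ε : F, (g : MM) *ᵥ u = l • u + ε • x := by
    have hI' := hu.conj hgG
    rw [inv_fix hl hφg] at hI'
    rcases hall _ (Inc.smul_right hI' (inv_ne_zero hl)) with h | h | h | h
    · exact absurd ((smul_eq_zero.1 h).resolve_left (inv_ne_zero hl))
        (GL_ne_zero_mulVec g fun e => hux 0 (by rw [e, zero_smul]))
    · exfalso
      rw [inv_smul_eq_iff₀ hl, ← hgx] at h
      refine hux 1 (by rw [one_smul]; exact Matrix.mulVec_injective_of_isUnit g.isUnit h)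
    · exact ⟨0, by rw [zero_smul, add_zero, ← inv_smul_eq_iff₀ hl]; exact h⟩
    · exact ⟨l, by rw [← smul_add, ← inv_smul_eq_iff₀ hl]; exact h⟩
  set M : MM := (g : MM) - l • 1 with hM
  have hMx : M *ᵥ x = 0 := by rw [hM, sub_mulVec, smul_mulVec, one_mulVec, hgx, sub_self]
  have hMu : M *ᵥ u = ε • x := by rw [hM, sub_mulVec, smul_mulVec, one_mulVec, hgu, add_sub_cancel_left]
  have hφM : φ ᵥ* M = 0 := by rw [hM, vecMul_sub, vecMul_smul, vecMul_one, hφg, sub_self]
  have hu' : u ∉ Submodule.span F ({x} : Set VV) := fun h => by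
    obtain ⟨a, ha⟩ := Submodule.mem_span_singleton.1 h
    exact hux a ha.symm
  have hM3 : M * M * M = 0 := by
    refine Matrix.ext_of_mulVec_single fun j => ?_
    rw [zero_mulVec, ← mulVec_mulVec, ← mulVec_mulVec]
    have h0 : φ ⬝ᵥ (M *ᵥ Pi.single j 1) = 0 := by rw [dotProduct_mulVec, hφM, zero_dotProduct]
    obtain ⟨a, b, hab⟩ := mem_span_pair hφ hI hu.1 h0 hx hu'
    rw [← hab, mulVec_add M, mulVec_smul, mulVec_smul, hMx, hMu, smul_zero, zero_add, mulVec_smul, mulVec_smul,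
      hMx, smul_zero, smul_zero]
  have hgM : (g : MM) = l • 1 + M := by rw [hM, add_sub_cancel]
  have hsq : ∀ (a : F) (A : MM), (a • 1 + A) * (a • 1 + A) = (a * a) • 1 + A * A := fun a A => by
    rw [mul_add, add_mul, add_mul, smul_mul_smul_comm, one_mul, smul_mul_assoc, one_mul, mul_smul_comm, mul_one,
      add_assoc, ← add_assoc (a • A), add_self_mat, zero_add]
  refine (Cfsg.Geo.mem_scalars_iff _).2 ⟨Units.mk0 l hl ^ 4, ?_⟩
  rw [Units.val_pow_eq_pow_val, show (g : MM) ^ 4 = (g : MM) * g * ((g : MM) * g) by simp only [pow_succ, pow_zero,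
    one_mul, mul_assoc], hgM, hsq, hsq, ← mul_assoc (M * M) M M, hM3, zero_mul, add_zero, Units.val_pow_eq_pow_val,
    Units.val_mk0]
  congr 1
  ring

/-- Facts at an elation with a further centre and a further axis. -/
theorem dot_one (hs : Small G) {x φ χ u : VV} (hx : x ≠ 0) (hφ : φ ≠ 0) (hI : Inc G x φ) (hχ : Inc G x χ)
    (hu : Inc G u φ) (hχφ : ∀ a : F, χ ≠ a • φ) (hux : ∀ a : F, u ≠ a • x) : χ ⬝ᵥ u = 1 := by
  rcases hs x φ _ hx hφ hI (Inc.comm hχ hu hI.1) with h | h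
  · obtain ⟨a, ha⟩ := kernel_line hφ hχφ hx hI.1 hχ.1 hu.1 h
    exact absurd ha (hux a)
  · exact h

theorem oneClass_of_two (hs : Small G) {x φ χ u : VV} (hx : x ≠ 0) (hφ : φ ≠ 0) (hI : Inc G x φ) (hχ : Inc G x χ)
    (hu : Inc G u φ) (hχφ : ∀ a : F, χ ≠ a • φ) (hux : ∀ a : F, u ≠ a • x) : OneClass G x φ u := by
  refine ⟨hu, hux, fun v hv => ?_⟩
  by_cases hvx : ∃ a : F, v = a • x
  · obtain ⟨a, rfl⟩ := hvx
    rcases hs x φ a hx hφ hI hv with rfl | rfl <;> simp
  push Not at hvx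
  have h1 : χ ⬝ᵥ (v + u) = 0 := by
    rw [dotProduct_add, dot_one hs hx hφ hI hχ hv hχφ hvx, dot_one hs hx hφ hI hχ hu hχφ hux,
      CharTwo.add_self_eq_zero]
  obtain ⟨a, ha⟩ := kernel_line hφ hχφ hx hI.1 hχ.1
    (show φ ⬝ᵥ (v + u) = 0 by rw [dotProduct_add, hv.1, hu.1, add_zero]) h1
  have hI' : Inc G (a • x) φ := ha ▸ mem_Bgp.1 ((Bgp G φ).add_mem (mem_Bgp.2 hv) (mem_Bgp.2 hu))
  have hv' : v = u + a • x := by rw [← ha, add_comm v u, ← add_assoc, add_self_vec, zero_add]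
  rcases hs x φ a hx hφ hI hI' with rfl | rfl
  · exact Or.inr (Or.inr (Or.inl (by rw [hv', zero_smul, add_zero])))
  · exact Or.inr (Or.inr (Or.inr (by rw [hv', one_smul])))

/-- The action on the further class. -/
theorem four_fix {t g : GG} {x φ u : VV} (hgG : g ∈ G) (hx : x ≠ 0) (hφ : φ ≠ 0)
    (ht : (t : MM) = 1 + vecMulVec x φ) (h1 : OneClass G x φ u) (hg : g ^ 4 = 1) (hc : Commute g t) :
    (g : MM) *ᵥ x = x ∧ φ ᵥ* (g : MM) = φ ∧ ((g : MM) *ᵥ u = u ∨ (g : MM) *ᵥ u = u + x) := by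
  obtain ⟨l, hl, hgx, hφg⟩ := commute_fix hx hφ ht hc
  have hn : ∀ n : ℕ, ((g ^ n : GG) : MM) *ᵥ x = l ^ n • x := fun n => by
    induction n with
    | zero => simp
    | succ n ih => rw [pow_succ, Units.val_mul, ← mulVec_mulVec, hgx, mulVec_smul, ih, smul_smul, pow_succ']
  have hl1 : l = 1 := one_of_pow_four (by
    have := hn 4
    rw [hg, Units.val_one, one_mulVec] at this
    obtain ⟨i, hi⟩ := Function.ne_iff.1 hx
    have := congrFun this i
    rw [Pi.smul_apply, smul_eq_mul] at this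
    exact (mul_right_cancel₀ hi ((one_mul (x i)).trans this)).symm)
  subst hl1
  rw [one_smul] at hgx hφg
  refine ⟨hgx, hφg, ?_⟩
  obtain ⟨hu, hux, hall⟩ := h1
  have hI := hu.conj hgG
  rw [show φ ᵥ* ((g⁻¹ : GG) : MM) = φ by
    simpa using inv_fix one_ne_zero (hφg.trans (one_smul F φ).symm)] at hI
  rcases hall _ hI with h | h | h | h
  · exact absurd h (GL_ne_zero_mulVec g fun e => hux 0 (by rw [e, zero_smul]))
  · exact absurd (Matrix.mulVec_injective_of_isUnit g.isUnit (h.trans hgx.symm)) (by simpa using hux 1)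
  · exact Or.inl h
  · exact Or.inr h

/-- An element fixing all four vectors is trivial or the elation. -/
theorem fix_all (hs : Small G) {t k : GG} {x φ χ u : VV} (hx : x ≠ 0) (hφ : φ ≠ 0)
    (hI : Inc G x φ) (hχx : χ ⬝ᵥ x = 0) (hu : φ ⬝ᵥ u = 0) (hχφ : ∀ a : F, χ ≠ a • φ) (hux : ∀ a : F, u ≠ a • x)
    (ht : (t : MM) = 1 + vecMulVec x φ) (hk : k ∈ G) (h1 : (k : MM) *ᵥ x = x) (h2 : (k : MM) *ᵥ u = u)
    (h3 : φ ᵥ* (k : MM) = φ) (h4 : χ ᵥ* (k : MM) = χ) : k = 1 ∨ k = t := by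
  obtain ⟨w, hw⟩ := outer_of_kills (N := (k : MM) - 1) hφ hx hI.1 hu hux
    (by rw [sub_mulVec, one_mulVec, h1, sub_self]) (by rw [sub_mulVec, one_mulVec, h2, sub_self])
  have hv : (k : MM) = 1 + vecMulVec w φ := by rw [← hw, add_sub_cancel]
  rw [hv, vecMul_one', add_eq_left] at h3 h4
  obtain ⟨c, rfl⟩ := kernel_line hφ hχφ hx hI.1 hχx ((smul_eq_zero.1 h3).resolve_right hφ)
    ((smul_eq_zero.1 h4).resolve_right hφ)
  rcases hs x φ c hx hφ hI ⟨by rw [dotProduct_smul, hI.1, smul_zero], k, hk, hv⟩ with rfl | rfl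
  · exact Or.inl (Units.ext (by rw [hv, zero_smul, zero_vecMulVec, add_zero]; rfl))
  · exact Or.inr (Units.ext (by rw [hv, ht, one_smul]))

end two

end Cfsg.Lib.MitchellThree.Residual.Even
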