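import Cfsg.Agent.MitchellThree.Residual.Setting
import Cfsg.Agent.MitchellThree.Residual.Even.SmallGeo
import Cfsg.Agent.InvolCalc.ZStarApps
import Cfsg.Agent.Classical.Misc.SmallPSL
import Cfsg.Agent.Classical.Misc.PSLNine
import Cfsg.Agent.Schur.LThreeFour
import Cfsg.Agent.S0348
import Cfsg.Agent.S0222
import Cfsg.Agent.S0205
import Cfsg.Agent.S0506
import Cfsg.Agent.S1141

/-!
Characteristic two with one elation on each incident pair: the simple quotient is a linear group of dimension two or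
the alternating group of degree six.
-/

set_option autoImplicit false
set_option linter.unusedSectionVars false
set_option linter.style.haveILetI false

namespace Cfsg.Lib.MitchellThree.Residual

open Matrix Subgroup Cfsg.Geo Cfsg.Lib.Classical Cfsg.Lib.Classical.LinOne Cfsg.Lib.Classical.SLThree
 Cfsg.Lib.Classical.SLThree.Elation
  Cfsg.Lib.Classical.SLThree.Singer Cfsg.Lib.MitchellThree.Elation
open Cfsg.Lib.MitchellThree.Residual.Even
open scoped MatrixGroups

universe u

namespace Even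

variable {F : Type u} [Field F] [Fintype F] [CharP F 2]

local notation "MM" => Matrix (Fin 3) (Fin 3) F
local notation "GG" => GL (Fin 3) F
local notation "VV" => (Fin 3 → F)

/-- No large subgroup of exponent two. -/
def AbBound (G : Subgroup (GL (Fin 3) F)) : Prop :=
  ∀ R : Subgroup (GL (Fin 3) F), R ≤ G → (∀ a ∈ R, a * a = 1) → Nat.card R ≤ 4

theorem AbBound.dual {G : Subgroup (GL (Fin 3) F)} (h : AbBound G) : AbBound (G.map dualHom) := fun R hR h2 => by
  rw [Nat.card_congr (R.equivMapOfInjective (dualHom (F := F)) dual_inj).toEquiv]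
  refine h _ ((Subgroup.map_mono hR).trans (map_dual_dual G).le) ?_
  rintro _ ⟨a, ha, rfl⟩
  rw [← map_mul, h2 a ha, map_one]

/-- The bound leaves one further class of centres. -/
theorem oneClass_of_bound {G : Subgroup (GL (Fin 3) F)} (hb : AbBound G) {x φ : Fin 3 → F} (hx : x ≠ 0) (hφ : φ ≠ 0)
    (hI : Inc G x φ) (hC : MoreC G x φ) : ∃ u, OneClass G x φ u := by
  classical
  obtain ⟨u, hu, hux⟩ := hC
  refine ⟨u, hu, hux, fun v hv => ?_⟩
  let R : Subgroup GG :=
    { carrier := {g | ∃ w, Inc G w φ ∧ (g : MM) = 1 + vecMulVec w φ}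
      mul_mem' := by
        rintro g h ⟨w, hw, hg⟩ ⟨z, hz, hh⟩
        exact ⟨w + z, mem_Bgp.1 ((Bgp G φ).add_mem (mem_Bgp.2 hw) (mem_Bgp.2 hz)),
          by rw [Units.val_mul, hg, hh, el_mul hz.1]⟩
      one_mem' := ⟨0, (Bgp G φ).zero_mem, by simp⟩
      inv_mem' := by
        rintro g ⟨w, hw, hg⟩
        exact ⟨w, hw, by rw [inv_eq_of_mul_eq_one_left (el_sq hw.1 hg), hg]⟩ }
  have hR : R ≤ G := by
    rintro g ⟨w, hw, hg⟩
    obtain ⟨h, hh, hhv⟩ := hw.2
    rwa [show g = h from Units.ext (hg.trans hhv.symm)]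
  have hR4 := hb R hR (by rintro g ⟨w, hw, hg⟩; exact el_sq hw.1 hg)
  let S : Finset VV := Finset.univ.filter fun w => Inc G w φ
  have hS : S.card ≤ 4 := by
    refine le_trans ?_ hR4
    rw [← Fintype.card_coe S, ← Nat.card_eq_fintype_card]
    choose e heG hev using fun w : S => ((Finset.mem_filter.1 w.2).2).2
    refine Nat.card_le_card_of_injective (fun w : S => (⟨e w, w.1, (Finset.mem_filter.1 w.2).2, hev w⟩ : R))
      fun a b hab => Subtype.ext ?_
    have h := congrArg (fun g : R => ((g : GG) : MM)) hab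
    simp only [hev, add_right_inj] at h
    rw [← sub_eq_zero, ← sub_vecMulVec] at h
    exact sub_eq_zero.1 ((outer_eq_zero h).resolve_right hφ)
  have hsub : ({0, x, u, u + x} : Finset VV) ⊆ S := by
    simp only [Finset.insert_subset_iff, Finset.singleton_subset_iff, S, Finset.mem_filter, Finset.mem_univ, true_and]
    exact ⟨(Bgp G φ).zero_mem, hI, hu, (Bgp G φ).add_mem (mem_Bgp.2 hu) (mem_Bgp.2 hI)⟩
  have hu0 : u ≠ 0 := by simpa using hux 0
  have hu1 : u ≠ x := by simpa using hux 1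
  have hux0 : u + x ≠ 0 := fun e => hu1 (by
    rw [← add_zero u, ← add_self_vec x, ← add_assoc, e, zero_add])
  have hcard : ({0, x, u, u + x} : Finset VV).card = 4 := by
    rw [Finset.card_insert_of_notMem, Finset.card_insert_of_notMem, Finset.card_insert_of_notMem,
      Finset.card_singleton]
    · simp [hx]
    · simp [hu1.symm, hu0]
    · simp [Ne.symm hx, Ne.symm hu0, Ne.symm hux0]
  have hv' : v ∈ ({0, x, u, u + x} : Finset VV) := by
    rw [Finset.eq_of_subset_of_card_le hsub (by rw [hcard]; exact hS)]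
    simp [S, hv]
  simpa using hv'

theorem scalar_of_dual {g : GG} (h : dualHom g ∈ scalars (Fin 3) F) : g ∈ scalars (Fin 3) F := by
  obtain ⟨c, hc⟩ := (mem_scalars_iff _).1 ((scalars (Fin 3) F).inv_mem h)
  refine (mem_scalars_iff _).2 ⟨c, ?_⟩
  rw [← dualHom_dual g, dualHom_val, hc, transpose_smul, transpose_one]

end Even


variable {F : Type u} [Field F] [Finite F]

local notation "MM" => Matrix (Fin 3) (Fin 3) F
local notation "GG" => GL (Fin 3) F
local notation "VV" => (Fin 3 → F)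

section lift

variable {P : Subgroup (GL (Fin 3) F)}

theorem Core.lift_unique (C : Core P) {g h : P} {n : ℕ} (hg : g ^ n = 1) (hh : h ^ n = 1) (h3 : n.Coprime 3)
    (e : proj P g = proj P h) : g = h := by
  set w := h⁻¹ * g with hw
  have hwk : proj P w = 1 := by rw [hw, map_mul, map_inv, e, inv_mul_cancel]
  obtain ⟨d, hd3, hd⟩ := C.scalar w.2 (mem_ker_proj.1 hwk)
  have hcomm : Commute h w := (show Commute w h from Subtype.ext
    (scalar_commute (mem_ker_proj.1 hwk) _).eq).symm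
  have hwn : w ^ n = 1 := by
    have h1 : (h * w) ^ n = 1 := by rw [hw, mul_inv_cancel_left, hg]
    rwa [hcomm.mul_pow, hh, one_mul] at h1
  have hw3 : w ^ 3 = 1 := Subtype.ext (Units.ext (by
    rw [SubmonoidClass.coe_pow, Units.val_pow_eq_pow_val, hd, _root_.smul_pow, one_pow, hd3, one_smul]; rfl))
  have := pow_gcd_eq_one.2 ⟨hwn, hw3⟩
  rw [h3.gcd_eq_one, pow_one] at this
  exact (inv_mul_eq_one.1 this).symm

theorem Core.inv_lift (C : Core P) {a : Quot3 P} (ha : a * a = 1) : ∃ g : P, g * g = 1 ∧ proj P g = a := by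
  obtain ⟨g, rfl⟩ := QuotientGroup.mk_surjective a
  obtain ⟨g₀, -, h1, -, -, h2⟩ := C.exists_lift (g := g) (n := 2) (by rw [sq]; exact ha) (by norm_num)
  exact ⟨g₀, by rw [← sq, h1], h2⟩

theorem Core.commute_lift (C : Core P) {g h : P} {n : ℕ} (hn : g ^ n = 1) (h3 : n.Coprime 3)
    (hc : Commute (proj P g) (proj P h)) : Commute (g : GG) (h : GG) := by
  have e := C.lift_conj (h := h) hn h3 (m := 1) (by
    rw [zpow_one, map_mul, map_mul, map_inv, ← hc.eq, mul_inv_cancel_right])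
  rw [zpow_one, mul_inv_eq_iff_eq_mul] at e
  exact congrArg Subtype.val e.symm

theorem Core.proj_order_two (C : Core P) {g : P} (h2 : g * g = 1) (h1 : g ≠ 1) : orderOf (proj P g) = 2 :=
  orderOf_eq_prime (by rw [← map_pow, sq, h2, map_one]) fun e =>
    h1 (C.lift_unique (n := 2) (by rw [sq, h2]) (one_pow _) (by norm_num) (e.trans (map_one _).symm))

theorem Core.quot_noncomm (C : Core P) : ∃ a b : Quot3 P, a * b ≠ b * a := by
  by_contra h
  push Not at h
  exact C.nonabelian ⟨⟨h⟩⟩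

theorem Core.quot_even (C : Core P) : 2 ∣ Nat.card (Quot3 P) := by
  haveI := C.simple
  rcases Nat.even_or_odd (Nat.card (Quot3 P)) with h | h
  · exact h.two_dvd
  · haveI := Cfsg.Agent.S0205.result h
    exact absurd ⟨⟨IsSimpleGroup.comm_iff_isSolvable.2 inferInstance⟩⟩ C.nonabelian

/-- No involution is isolated. -/
theorem Core.exists_other (C : Core P) {a : Quot3 P} (ha : orderOf a = 2) :
    ∃ b, orderOf b = 2 ∧ Commute a b ∧ b ≠ a := by
  haveI := C.simple
  by_contra hne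
  push Not at hne
  have hiso : Cfsg.IsIsolatedInvolution a := ⟨ha, fun g hg => hne _ (by
    rw [← ha]; exact MulEquiv.orderOf_eq (MulAut.conj g) a) hg⟩
  have hcore : Cfsg.pPrimeCore 2 (Quot3 P) = ⊥ := by
    refine (IsSimpleGroup.eq_bot_or_eq_top_of_normal _ inferInstance).resolve_right fun e => ?_
    have := Cfsg.Lib.ZStarApps.odd_card_pPrimeCore (G := Quot3 P)
    rw [e, Subgroup.card_top] at this
    exact Nat.not_even_iff_odd.2 this (even_iff_two_dvd.2 C.quot_even)
  have hz : a ∈ Subgroup.center (Quot3 P) := mem_center_iff.2 fun g => by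
    have := Cfsg.Lib.ZStarApps.zstarProp hiso g
    rw [hcore, Subgroup.mem_bot, mul_inv_eq_one, mul_inv_eq_iff_eq_mul] at this
    exact this.symm
  rcases IsSimpleGroup.eq_bot_or_eq_top_of_normal (Subgroup.center (Quot3 P)) inferInstance with e | e
  · rw [e, Subgroup.mem_bot] at hz
    rw [hz, orderOf_one] at ha
    omega
  · obtain ⟨b, c, hbc⟩ := C.quot_noncomm
    exact hbc (mem_center_iff.1 (e ▸ mem_top c) b)

variable [Fintype F] [CharP F 2]

theorem Core.det_all (C : Core P) : ∀ g ∈ P, (g : MM).det = 1 := fun _ hg => C.det hg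

theorem Core.el_data (C : Core P) {a : Quot3 P} (ha : orderOf a = 2) :
    ∃ (g : P) (x φ : VV), x ≠ 0 ∧ φ ≠ 0 ∧ Inc P x φ ∧ ((g : GG) : MM) = 1 + vecMulVec x φ ∧ g * g = 1 ∧
      proj P g = a := by
  obtain ⟨g, h2, rfl⟩ := C.inv_lift (by rw [← sq, ← ha, pow_orderOf_eq_one] : a * a = 1)
  obtain ⟨x, φ, hx, hφ, hI, hv⟩ := exists_el C.det_all g.2 (congrArg Subtype.val h2) fun e => by
    rw [show g = 1 from Subtype.ext e, map_one, orderOf_one] at ha
    omega
  exact ⟨g, x, φ, hx, hφ, hI, hv, h2, rfl⟩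

/-- Every elation has a further centre or a further axis. -/
theorem Core.moreC_or_moreA (C : Core P) (hs : Even.Small P) {g : P} {x φ : VV} (hx : x ≠ 0) (hφ : φ ≠ 0)
    (hI : Inc P x φ) (hv : ((g : GG) : MM) = 1 + vecMulVec x φ) : MoreC P x φ ∨ MoreA P x φ := by
  have h2 : g * g = 1 := Subtype.ext (el_sq hI.1 hv)
  have h1 : g ≠ 1 := fun e => by
    rw [e, OneMemClass.coe_one, Units.val_one, left_eq_add] at hv
    exact (outer_eq_zero hv).elim hx hφ
  obtain ⟨b, hb, hab, hne⟩ := C.exists_other (C.proj_order_two h2 h1)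
  obtain ⟨h, hh, rfl⟩ := C.inv_lift (by rw [← sq, ← hb, pow_orderOf_eq_one] : b * b = 1)
  by_contra hc
  push Not at hc
  obtain ⟨u, hu, huv⟩ := axis_of_commute C.det_all g.2 h.2 hx hφ hI.1 hv hc.2 (congrArg Subtype.val hh)
    (C.commute_lift (n := 2) (by rw [sq, h2]) (by norm_num) hab)
  obtain ⟨a, rfl⟩ : ∃ a : F, u = a • x := by
    by_contra h'
    push Not at h'
    exact hc.1 ⟨u, hu, h'⟩
  rcases hs x φ a hx hφ hI hu with rfl | rfl
  · rw [show h = 1 from Subtype.ext (Units.ext (by rw [huv, zero_smul, zero_vecMulVec, add_zero]; rfl)), map_one,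
      orderOf_one] at hb
    omega
  · exact hne (congrArg _ (Subtype.ext (Units.ext (by rw [huv, hv, one_smul]))))

/-- An elation with a further centre and a further axis: the Sylow two-subgroups have order eight. -/
theorem Core.two_sided (C : Core P) (hs : Even.Small P) {t : P} {x φ : VV} (hx : x ≠ 0) (hφ : φ ≠ 0) (hI : Inc P x φ)
    (ht : ((t : GG) : MM) = 1 + vecMulVec x φ) (hC : MoreC P x φ) (hA : MoreA P x φ) :
    (8 ∣ Nat.card (Quot3 P) ∧ ¬ 16 ∣ Nat.card (Quot3 P)) ∧ AbBound P := by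
  classical
  haveI : Fintype (Quot3 P) := Fintype.ofFinite _
  haveI : Fact (Nat.Prime 2) := ⟨Nat.prime_two⟩
  obtain ⟨u, hu, hux⟩ := hC
  obtain ⟨χ, hχ, hχφ⟩ := hA
  have hU := oneClass_of_two hs hx hφ hI hχ hu hχφ hux
  have hX : OneClass (P.map dualHom) φ x χ :=
    oneClass_of_two hs.dual hφ hx (inc_dual hI) (inc_dual hu) (inc_dual hχ) hux hχφ
  have ht2 : t * t = 1 := Subtype.ext (el_sq hI.1 ht)
  have ht2' : t ^ 2 = 1 := by rw [sq, ht2]
  set a := proj P t with ha
  set Z : Subgroup (Quot3 P) := centralizer {a} with hZ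
  have memZ : ∀ {b : Quot3 P}, b ∈ Z ↔ Commute a b := fun {b} => by
    rw [hZ, mem_centralizer_singleton_iff]
    exact ⟨fun h => h.symm, fun h => h.eq.symm⟩
  have hp4 : ∀ b ∈ Z, b ^ 4 = 1 := fun b hb => by
    obtain ⟨g, rfl⟩ := QuotientGroup.mk'_surjective _ b
    have := pow_four_scalar g.2 hx hφ hI.1 ht hU (C.commute_lift ht2' (by norm_num) (memZ.1 hb)).symm
    rw [← map_pow]
    exact mem_ker_proj.2 this
  have hLex : ∀ b : Z, ∃ g : P, g ^ 4 = 1 ∧ proj P g = b := fun b => by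
    obtain ⟨g, hg⟩ := QuotientGroup.mk'_surjective _ (b : Quot3 P)
    obtain ⟨g₀, -, h1, -, -, h2⟩ := C.exists_lift (g := g) (n := 4) (by rw [hg]; exact hp4 b b.2) (by norm_num)
    exact ⟨g₀, h1, h2.trans hg⟩
  choose L hL4 hLp using hLex
  have hLt : ∀ b : Z, Commute (L b : GG) (t : GG) := fun b =>
    (C.commute_lift ht2' (by norm_num) (by rw [hLp]; exact memZ.1 b.2)).symm
  have hfix : ∀ b : Z, ((L b : GG) : MM) *ᵥ x = x ∧ φ ᵥ* ((L b : GG) : MM) = φ ∧
      (((L b : GG) : MM) *ᵥ u = u ∨ ((L b : GG) : MM) *ᵥ u = u + x) ∧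
      (χ ᵥ* (((L b : GG)⁻¹ : GG) : MM) = χ ∨ χ ᵥ* (((L b : GG)⁻¹ : GG) : MM) = χ + φ) := fun b => by
    have h4 : (L b : GG) ^ 4 = 1 := congrArg Subtype.val (hL4 b)
    obtain ⟨e1, e2, e3⟩ := four_fix (L b).2 hx hφ ht hU h4 (hLt b)
    obtain ⟨-, -, e4⟩ := four_fix (G := P.map dualHom) (mem_map_of_mem _ (L b).2) hφ hx (dual_el hI.1 ht) hX
      (by rw [← map_pow, h4, map_one]) ((hLt b).map _)
    rw [dualHom_val, mulVec_transpose] at e4
    exact ⟨e1, e2, e3, e4⟩
  have hfib : ∀ b c : Z, ((L b : GG) : MM) *ᵥ u = ((L c : GG) : MM) *ᵥ u →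
      χ ᵥ* (((L b : GG)⁻¹ : GG) : MM) = χ ᵥ* (((L c : GG)⁻¹ : GG) : MM) →
      (b : Quot3 P) = c ∨ (b : Quot3 P) = c * a := fun b c h1 h2 => by
    set g : GG := (L b : GG)
    set h : GG := (L c : GG)
    have hh : φ ᵥ* ((h⁻¹ : GG) : MM) = φ := by
      simpa using inv_fix one_ne_zero ((hfix c).2.1.trans (one_smul F φ).symm)
    have hcancel : ∀ (k : GG) (z : VV), ((k⁻¹ : GG) : MM) *ᵥ ((k : MM) *ᵥ z) = z := fun k z => by
      rw [mulVec_mulVec, ← Units.val_mul, inv_mul_cancel, Units.val_one, one_mulVec]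
    rcases fix_all hs hx hφ hI hχ.1 hu.1 hχφ hux ht (P.mul_mem (P.inv_mem (L c).2) (L b).2)
      (by rw [Units.val_mul, ← mulVec_mulVec, (hfix b).1]; conv_lhs => rw [← (hfix c).1]
          exact hcancel h x)
      (by rw [Units.val_mul, ← mulVec_mulVec, h1]; exact hcancel h u)
      (by rw [Units.val_mul, ← vecMul_vecMul, hh]; exact (hfix b).2.1)
      (by rw [Units.val_mul, ← vecMul_vecMul, ← h2, vecMul_vecMul, ← Units.val_mul, inv_mul_cancel, Units.val_one,
            vecMul_one]) with e | e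
    · left
      rw [← hLp b, ← hLp c, show L b = L c from Subtype.ext (inv_mul_eq_one.1 e).symm]
    · right
      rw [← hLp b, ← hLp c, ha, ← map_mul, show L b = L c * t from Subtype.ext (inv_mul_eq_iff_eq_mul.1 e)]
  have hcard : Nat.card Z ≤ 8 := by
    rw [Nat.card_eq_fintype_card, ← Finset.card_univ]
    let f : Z → Bool × Bool := fun b => (decide (((L b : GG) : MM) *ᵥ u = u),
      decide (χ ᵥ* (((L b : GG)⁻¹ : GG) : MM) = χ))
    refine (Finset.card_le_mul_card_image (f := f) Finset.univ 2 fun z hz => ?_).trans ?_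
    · obtain ⟨c, -, rfl⟩ := Finset.mem_image.1 hz
      refine (Finset.card_le_card (t := {c, ⟨(c : Quot3 P) * a, Z.mul_mem c.2 (memZ.2 (Commute.refl a))⟩})
        fun b hb => ?_).trans Finset.card_le_two
      obtain ⟨hb1, hb2⟩ := Prod.ext_iff.1 (Finset.mem_filter.1 hb).2
      simp only [f, decide_eq_decide] at hb1 hb2
      have hne : ∀ {v w : VV}, w ≠ 0 → v + w ≠ v := fun {v w} hw e => hw (add_eq_left.1 e)
      have h1 : ((L b : GG) : MM) *ᵥ u = ((L c : GG) : MM) *ᵥ u := by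
        rcases (hfix b).2.2.1 with e | e <;> rcases (hfix c).2.2.1 with e' | e'
        · rw [e, e']
        · exact absurd (e'.symm.trans (hb1.1 e)) (hne hx)
        · exact absurd (e.symm.trans (hb1.2 e')) (hne hx)
        · rw [e, e']
      have h2 : χ ᵥ* (((L b : GG)⁻¹ : GG) : MM) = χ ᵥ* (((L c : GG)⁻¹ : GG) : MM) := by
        rcases (hfix b).2.2.2 with e | e <;> rcases (hfix c).2.2.2 with e' | e'
        · rw [e, e']
        · exact absurd (e'.symm.trans (hb2.1 e)) (hne hφ)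
        · exact absurd (e.symm.trans (hb2.2 e')) (hne hφ)
        · rw [e, e']
      rcases hfib b c h1 h2 with e | e
      · simp [Subtype.ext e]
      · simp [Subtype.ext_iff, e]
    · exact (Nat.mul_le_mul_left 2 (Finset.card_le_univ _)).trans (by simp)
  -- two noncommuting elements
  obtain ⟨e, heP, hev⟩ := hu.2
  obtain ⟨d, hdP, hdv⟩ := hχ.2
  have he2 : (⟨e, heP⟩ : P) ^ 2 = 1 := by rw [sq]; exact Subtype.ext (el_sq hu.1 hev)
  have hd2 : (⟨d, hdP⟩ : P) ^ 2 = 1 := by rw [sq]; exact Subtype.ext (el_sq hχ.1 hdv)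
  have hte : Commute (t : GG) e := Units.ext (by
    rw [Units.val_mul, Units.val_mul, ht, hev, el_mul hu.1, el_mul hI.1, add_comm x u])
  have htd : Commute (t : GG) d := Units.ext (by
    rw [Units.val_mul, Units.val_mul, ht, hdv, one_mul_one, one_mul_one, hI.1, hχ.1]
    simp only [zero_smul, zero_vecMulVec, add_zero]
    rw [add_right_comm])
  set eq : Quot3 P := proj P ⟨e, heP⟩ with heq
  set dq : Quot3 P := proj P ⟨d, hdP⟩ with hdq
  have heZ : eq ∈ Z := memZ.2 ((show Commute t (⟨e, heP⟩ : P) from Subtype.ext hte.eq).map (proj P))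
  have hdZ : dq ∈ Z := memZ.2 ((show Commute t (⟨d, hdP⟩ : P) from Subtype.ext htd.eq).map (proj P))
  have hned : ¬ Commute eq dq := fun hc => by
    have h := congrArg Units.val (C.commute_lift he2 (by norm_num) hc).eq
    simp only [Units.val_mul] at h
    rw [hev, hdv, one_mul_one, one_mul_one, hI.1, zero_smul, zero_vecMulVec, add_zero,
      dot_one hs hx hφ hI hχ hu hχφ hux, one_smul, add_right_comm 1 (vecMulVec x χ), left_eq_add] at h
    exact (outer_eq_zero h).elim hx hφ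
  have hZ2 : IsPGroup 2 Z := fun b => ⟨2, Subtype.ext (hp4 b b.2)⟩
  have hZn : ¬ IsMulCommutative Z := fun h =>
    hned (congrArg Subtype.val (h.is_comm.comm (⟨eq, heZ⟩ : Z) ⟨dq, hdZ⟩))
  have hZ8 : Nat.card Z = 8 := by
    obtain ⟨k, hk⟩ := hZ2.exists_card_eq
    rcases lt_trichotomy k 3 with h | h | h
    · exfalso
      refine hZn ⟨⟨?_⟩⟩
      interval_cases k
      · haveI : Subsingleton Z := (Nat.card_eq_one_iff_unique.1 hk).1
        exact fun _ _ => Subsingleton.elim _ _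
      · haveI := isCyclic_of_prime_card (α := Z) (p := 2) hk
        exact fun b c => IsCyclic.commGroup.mul_comm b c
      · exact IsPGroup.commutative_of_card_eq_prime_sq (p := 2) hk
    · rw [hk, h]; norm_num
    · have : 2 ^ 4 ≤ 2 ^ k := Nat.pow_le_pow_right (by norm_num) h
      omega
  have hcentral : ∀ b ∈ Z, Commute b eq → Commute b dq → b = 1 ∨ b = a := fun b hb hbe hbd => by
    set g := L ⟨b, hb⟩
    obtain ⟨m, -, hgu, hφg⟩ := commute_fix (x := u) (φ := φ)
      (fun h => hux 0 (by rw [h, zero_smul])) hφ hev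
      (C.commute_lift (g := ⟨e, heP⟩) (h := g) he2 (by norm_num) (by rw [hLp]; exact hbe.symm)).symm
    obtain ⟨m', -, hgx, hχg⟩ := commute_fix (x := x) (φ := χ) hx
      (fun h => hχφ 0 (by rw [h, zero_smul])) hdv
      (C.commute_lift (g := ⟨d, hdP⟩) (h := g) hd2 (by norm_num) (by rw [hLp]; exact hbd.symm)).symm
    obtain ⟨e1, e2, -, -⟩ := hfix ⟨b, hb⟩
    have hm : m = 1 := by
      rw [e2] at hφg
      exact smul_left_injective F hφ (hφg.symm.trans (one_smul F φ).symm)
    have hm' : m' = 1 := by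
      rw [e1] at hgx
      exact smul_left_injective F hx (hgx.symm.trans (one_smul F x).symm)
    rw [hm, one_smul] at hgu
    rw [hm', one_smul] at hχg
    rcases fix_all hs hx hφ hI hχ.1 hu.1 hχφ hux ht g.2 e1 hgu e2 hχg with h | h
    · left
      exact (hLp ⟨b, hb⟩).symm.trans ((congrArg (proj P) (show g = 1 from Subtype.ext h)).trans (map_one _))
    · right
      exact (hLp ⟨b, hb⟩).symm.trans (congrArg (proj P) (show g = t from Subtype.ext h))
  have ha1 : a ≠ 1 := fun h => by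
    have := C.lift_unique ht2' (one_pow _) (by norm_num) (h.trans (map_one _).symm)
    rw [this, OneMemClass.coe_one, Units.val_one, left_eq_add] at ht
    exact (outer_eq_zero ht).elim hx hφ
  obtain ⟨Q, hQ⟩ := hZ2.exists_le_sylow
  have hQZ : (Q : Subgroup (Quot3 P)) = Z := by
    haveI : Group.IsNilpotent (Q : Subgroup (Quot3 P)) := Q.isPGroup'.isNilpotent
    by_contra hne
    have hlt : Z.subgroupOf (Q : Subgroup (Quot3 P)) < ⊤ := lt_top_iff_ne_top.2 fun e => hne
      (le_antisymm (subgroupOf_eq_top.1 e) hQ)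
    obtain ⟨n, hn, hnZ⟩ := SetLike.exists_of_lt (Group.normalizerCondition_of_isNilpotent _ hlt)
    refine hnZ (mem_subgroupOf.2 (memZ.2 ?_))
    have hconj : ∀ b ∈ Z, (n : Quot3 P) * b * (n : Quot3 P)⁻¹ ∈ Z := fun b hb =>
      mem_subgroupOf.1 ((mem_normalizer_iff.1 hn ⟨b, hQ hb⟩).1 (mem_subgroupOf.2 hb))
    have hpre : ∀ b ∈ Z, (n : Quot3 P)⁻¹ * b * (n : Quot3 P) ∈ Z := fun b hb => by
      have := (mem_normalizer_iff''.1 hn ⟨b, hQ hb⟩).1 (mem_subgroupOf.2 hb)
      exact mem_subgroupOf.1 this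
    have haZ : a ∈ Z := memZ.2 (Commute.refl a)
    have hall : ∀ b ∈ Z, Commute ((n : Quot3 P) * a * (n : Quot3 P)⁻¹) b := fun b hb => by
      have h := (memZ.1 (hpre b hb)).map (MulAut.conj (n : Quot3 P))
      simpa [mul_assoc] using h
    rcases hcentral _ (hconj a haZ) (hall _ heZ) (hall _ hdZ) with h | h
    · exact absurd (conj_eq_one_iff.1 h) ha1
    · rw [mul_inv_eq_iff_eq_mul] at h
      exact h.symm
  have hQ8 : Nat.card Q = 8 := by rw [← hZ8, ← hQZ]
  have hQn : ¬ IsMulCommutative Q := fun h => hZn (hQZ ▸ h)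
  refine ⟨⟨hQ8 ▸ card_subgroup_dvd_card (Q : Subgroup (Quot3 P)), fun h16 => ?_⟩, fun R hR h2 => ?_⟩
  · obtain ⟨R, hR⟩ := Sylow.exists_subgroup_card_pow_prime 2 (n := 4) (G := Quot3 P) (show 2 ^ 4 ∣ _ from h16)
    obtain ⟨S, hS⟩ := (IsPGroup.of_card hR).exists_le_sylow
    have := Subgroup.card_le_of_le hS
    rw [hR, Nat.card_congr (S.equiv Q).toEquiv, hQ8] at this
    norm_num at this
  · set R' := (R.subgroupOf P).map (proj P) with hR'
    have hR2 : ∀ b ∈ R', b * b = 1 := by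
      rintro _ ⟨g, hg, rfl⟩
      rw [← map_mul, show g * g = 1 from Subtype.ext (h2 _ (mem_subgroupOf.1 hg)), map_one]
    have hle : Nat.card R ≤ Nat.card R' := by
      refine Nat.card_le_card_of_injective
        (fun g : R => (⟨proj P ⟨g, hR g.2⟩, ⟨g, hR g.2⟩, mem_subgroupOf.2 g.2, rfl⟩ : R')) fun g h e => ?_
      have := C.lift_unique (g := ⟨g, hR g.2⟩) (h := ⟨h, hR h.2⟩) (n := 2)
        (by rw [sq]; exact Subtype.ext (h2 _ g.2)) (by rw [sq]; exact Subtype.ext (h2 _ h.2)) (by norm_num)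
        (congrArg Subtype.val e)
      exact Subtype.ext (congrArg (fun z : P => (z : GG)) this)
    refine hle.trans ?_
    have hp : IsPGroup 2 R' := fun b => ⟨1, Subtype.ext (by rw [pow_one, sq]; exact hR2 b b.2)⟩
    obtain ⟨S, hS⟩ := hp.exists_le_sylow
    obtain ⟨k, hk⟩ := hp.exists_card_eq
    have hS8 : Nat.card S = 8 := by rw [Nat.card_congr (S.equiv Q).toEquiv, hQ8]
    by_contra h4
    have hk3 : 3 ≤ k := by
      by_contra hk'
      have : 2 ^ k ≤ 2 ^ 2 := Nat.pow_le_pow_right (by norm_num) (by omega)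
      omega
    have h8 : 8 ≤ Nat.card R' := by
      rw [hk]; exact le_trans (by norm_num) (Nat.pow_le_pow_right (by norm_num) hk3)
    have heqS : R' = (S : Subgroup (Quot3 P)) := Subgroup.eq_of_le_of_card_ge hS (by rw [hS8]; exact h8)
    refine hQn ⟨⟨fun b c => ?_⟩⟩
    have hexp : ∀ b : S, b * b = 1 := fun b => Subtype.ext (hR2 b (heqS ▸ b.2))
    have hcomm : ∀ b c : S, b * c = c * b := fun b c => mul_comm_of_mul_self hexp b c
    apply (S.equiv Q).symm.injective
    rw [map_mul, map_mul, hcomm]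
where
  mul_comm_of_mul_self {S : Type u} [Group S] (h : ∀ b : S, b * b = 1) (b c : S) : b * c = c * b := by
    have hi : ∀ z : S, z⁻¹ = z := fun z => inv_eq_of_mul_eq_one_left (h z)
    rw [← hi (b * c), _root_.mul_inv_rev, hi, hi]

/-- The fourth power of an element commuting with an involution is one. -/
theorem Core.cit (C : Core P) (hs : Even.Small P) (hb : AbBound P) {a : Quot3 P} (ha : orderOf a = 2) :
    IsPGroup 2 (centralizer ({a} : Set (Quot3 P))) := by
  obtain ⟨g, x, φ, hx, hφ, hI, hv, h2, rfl⟩ := C.el_data ha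
  intro b
  refine ⟨2, Subtype.ext ?_⟩
  obtain ⟨k, hk⟩ := QuotientGroup.mk'_surjective _ (b : Quot3 P)
  have hc : Commute (g : GG) (k : GG) := C.commute_lift (n := 2) (by rw [sq, h2]) (by norm_num) (by
    rw [hk]; exact (mem_centralizer_singleton_iff.1 b.2).symm)
  have hsc : ((k ^ 4 : P) : GG) ∈ scalars (Fin 3) F := by
    rw [SubmonoidClass.coe_pow]
    rcases C.moreC_or_moreA hs hx hφ hI hv with h | h
    · obtain ⟨u, hu⟩ := oneClass_of_bound hb hx hφ hI h
      exact pow_four_scalar k.2 hx hφ hI.1 hv hu hc.symm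
    · obtain ⟨u, hu⟩ := oneClass_of_bound hb.dual hφ hx (inc_dual hI) (moreC_dual.2 h)
      refine scalar_of_dual ?_
      rw [map_pow]
      exact pow_four_scalar (mem_map_of_mem _ k.2) hφ hx (inc_dual hI).1 (dual_el hI.1 hv) hu (hc.symm.map _)
  rw [SubmonoidClass.coe_pow, ← hk, ← map_pow]
  exact mem_ker_proj.2 hsc

/-- No involution has both further centres and axes. -/
theorem Core.none_two_sided (C : Core P) (hs : Even.Small P)
    (hn : ∀ x φ : VV, x ≠ 0 → φ ≠ 0 → Inc P x φ → ¬ (MoreC P x φ ∧ MoreA P x φ)) : OddTypes 2 P := by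
  classical
  haveI := C.simple
  haveI : Fact (Nat.Prime 2) := ⟨Nat.prime_two⟩
  let Inv : Quot3 P → Prop := fun b => b * b = 1
  obtain ⟨a, ha⟩ := exists_prime_orderOf_dvd_card' 2 C.quot_even
  have htrans : ∀ i j k : Quot3 P, orderOf j = 2 → i * i = 1 → k * k = 1 → Commute j i → Commute j k →
      Commute i k := by
    intro i j k hj hi hk hji hjk
    obtain ⟨g, x, φ, hx, hφ, hI, hv, h2, rfl⟩ := C.el_data hj
    obtain ⟨i', hi', rfl⟩ := C.inv_lift hi
    obtain ⟨k', hk', rfl⟩ := C.inv_lift hk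
    have h := commute_trans C.det_all g.2 i'.2 k'.2 hx hφ hI.1 hv (hn x φ hx hφ hI) (congrArg Subtype.val hi')
      (congrArg Subtype.val hk') (C.commute_lift (n := 2) (by rw [sq, h2]) (by norm_num) hji)
      (C.commute_lift (n := 2) (by rw [sq, h2]) (by norm_num) hjk)
    exact (show Commute i' k' from Subtype.ext h.eq).map (proj P)
  have horder : ∀ {b : Quot3 P}, b * b = 1 → b ≠ 1 → orderOf b = 2 := fun hb h1 =>
    orderOf_eq_prime (by rw [sq]; exact hb) h1
  have ha2 : a * a = 1 := by rw [← sq, ← ha, pow_orderOf_eq_one]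
  let A : Subgroup (Quot3 P) :=
    { carrier := {b | b * b = 1 ∧ Commute a b}
      mul_mem' := fun {b c} hb hc => ⟨by
        rw [(htrans c a b ha hc.1 hb.1 hc.2 hb.2).mul_mul_mul_comm, hb.1, hc.1, one_mul], hb.2.mul_right hc.2⟩
      one_mem' := ⟨one_mul 1, Commute.one_right a⟩
      inv_mem' := fun {b} hb => ⟨by rw [← _root_.mul_inv_rev, hb.1, inv_one], hb.2.inv_right⟩ }
  have haA : a ∈ A := ⟨ha2, Commute.refl a⟩
  have ha1 : a ≠ 1 := fun h => by rw [h, orderOf_one] at ha; omega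
  set M : Subgroup (Quot3 P) := normalizer (A : Set (Quot3 P)) with hM
  have hMtop : M ≠ ⊤ := fun h => by
    haveI : A.Normal := normalizer_eq_top_iff.1 h
    rcases IsSimpleGroup.eq_bot_or_eq_top_of_normal A inferInstance with e | e
    · exact ha1 ((mem_bot (G := Quot3 P)).1 (e ▸ haA))
    · obtain ⟨b, c, hbc⟩ := C.quot_noncomm
      have hb : b ∈ A := e ▸ mem_top b
      have hc : c ∈ A := e ▸ mem_top c
      exact hbc (htrans b a c ha hb.1 hc.1 hb.2 hc.2).eq
  have haM : a ∈ M := le_normalizer haA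
  have hemb : Cfsg.IsStronglyEmbedded M := by
    refine ⟨hMtop, ?_, fun g hg => ?_⟩
    · rw [even_iff_two_dvd, ← ha, ← Subgroup.orderOf_mk a haM]
      exact orderOf_dvd_natCard _
    · rw [← Nat.not_even_iff_odd, even_iff_two_dvd]
      intro hdvd
      obtain ⟨⟨i, hi'⟩, hi⟩ := exists_prime_orderOf_dvd_card' 2 hdvd
      obtain ⟨hiM, hig⟩ := mem_inf.1 hi'
      rw [Subgroup.orderOf_mk] at hi
      have hi2 : i * i = 1 := by rw [← sq, ← hi, pow_orderOf_eq_one]
      have inA : ∀ k ∈ M, k * k = 1 → Commute a k := by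
        intro k hk hk2
        have hki : k⁻¹ = k := inv_eq_of_mul_eq_one_left hk2
        have hc : k * a * k ∈ A := by
          have := (mem_normalizer_iff.1 hk a).1 haA
          rwa [hki] at this
        by_cases hfix : k * a * k = a
        · show a * k = k * a
          conv_lhs => rw [← hfix, mul_assoc, hk2, mul_one]
        · set b := a * (k * a * k) with hb
          have hbA : b ∈ A := A.mul_mem haA hc
          have hb1 : b ≠ 1 := fun e => hfix (by
            rw [hb, ← inv_eq_iff_mul_eq_one, inv_eq_of_mul_eq_one_left ha2] at e; exact e.symm)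
          have hbk : Commute b k := by
            have hcomm : a * (k * a * k) = k * a * k * a := hc.2.eq
            show b * k = k * b
            calc b * k = a * k * a * (k * k) := by rw [hb]; group
              _ = k * k * (a * k * a) := by rw [hk2, one_mul, mul_one]
              _ = k * (k * a * k * a) := by group
              _ = k * b := by rw [← hcomm, hb]
          exact htrans a b k (horder hbA.1 hb1) ha2 hk2 hbA.2.symm hbk
      have hia := inA i hiM hi2
      obtain ⟨j, hj, rfl⟩ := hig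
      simp only [MulEquiv.coe_toMonoidHom, MulAut.conj_apply] at hi hi2 hia
      have hj2 : j * j = 1 := by
        have h1 : g * (j * j) * g⁻¹ = 1 := by rw [← hi2]; group
        simpa using conj_eq_one_iff.1 h1
      have hja := inA j hj hj2
      refine hg (Cfsg.Lib.ZStarApps.mem_normalizer_of_maps fun b hb => ?_)
      have hbj : Commute b j := htrans b a j ha hb.1 hj2 hb.2 hja
      have hgb : Commute (g * b * g⁻¹) (g * j * g⁻¹) := by
        simpa using hbj.map (MulAut.conj g)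
      have hgb2 : g * b * g⁻¹ * (g * b * g⁻¹) = 1 := by
        rw [show g * b * g⁻¹ * (g * b * g⁻¹) = g * (b * b) * g⁻¹ by group, hb.1, mul_one, mul_inv_cancel]
      exact ⟨hgb2, htrans a _ _ hi ha2 hgb2 hia.symm hgb.symm⟩
  -- no element of order four
  have hfour : ∀ b : Quot3 P, orderOf (b * b) ≠ 2 := by
    intro b hb
    obtain ⟨g, x, φ, hx, hφ, hI, hv, h2, hp⟩ := C.el_data hb
    obtain ⟨k, hk⟩ := QuotientGroup.mk'_surjective _ b
    obtain ⟨k₀, -, h1, -, -, h3⟩ := C.exists_lift (g := k) (n := 4) (by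
      rw [hk, show b ^ 4 = (b * b) ^ 2 by rw [← sq, ← pow_mul], ← hb, pow_orderOf_eq_one]) (by norm_num)
    have : k₀ * k₀ = g := C.lift_unique (n := 2) (by rw [← pow_two k₀, ← pow_mul, h1]) (by rw [sq, h2]) (by norm_num)
      (by rw [map_mul, h3, hk, hp])
    exact no_sqrt C.det_all hs g.2 k₀.2 hx hφ hI.1 hv (C.moreC_or_moreA hs hx hφ hI hv) (hn x φ hx hφ hI)
      (congrArg Subtype.val this)
  have hexp : ∀ (R : Subgroup (Quot3 P)), IsPGroup 2 R → ∀ b c : R, b * c = c * b := by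
    intro R hR
    refine Core.two_sided.mul_comm_of_mul_self fun b => ?_
    obtain ⟨k, hk⟩ := IsPGroup.iff_orderOf.1 hR b
    rcases k with _ | _ | k
    · rw [orderOf_eq_one_iff.1 (hk.trans (pow_zero 2)), one_mul]
    · rw [← sq, ← pow_one 2, ← hk, pow_orderOf_eq_one]
    · exfalso
      refine hfour ((b : Quot3 P) ^ 2 ^ k) ?_
      rw [← pow_add, ← two_mul, ← pow_succ', orderOf_pow' _ (by positivity), orderOf_coe, hk,
        Nat.gcd_eq_right (pow_dvd_pow 2 (Nat.le_succ (k + 1))),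
        Nat.pow_div (Nat.le_succ (k + 1)) (by norm_num)]
      norm_num
  rcases Cfsg.Agent.S0222.result C.quot_noncomm M hemb with
    ⟨K, iK, iF, hchar, -, he⟩ | hS | ⟨K, iK, iF, q, hq, hqe, hq4, ⟨e⟩⟩
  · refine Or.inl ⟨K, iK, iF, ?_, he⟩
    obtain ⟨n, -, hn⟩ := FiniteField.card K 2
    exact ⟨n, hn⟩
  · exfalso
    obtain ⟨S⟩ : Nonempty (Sylow 2 (Quot3 P)) := inferInstance
    obtain ⟨-, m, hm1, hm⟩ := hS
    have hq3 : 2 ^ (2 * m + 1) % 3 = 2 := by
      rw [pow_succ, pow_mul, Nat.mul_mod, Nat.pow_mod]; norm_num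
    generalize 2 ^ (2 * m + 1) = q at hq3 hm
    have h3 : ¬ 3 ∣ Nat.card (Quot3 P) := by
      rw [hm, Nat.Prime.dvd_mul Nat.prime_three, Nat.Prime.dvd_mul Nat.prime_three, sq]
      have e1 : q * q % 3 = 1 := by rw [Nat.mul_mod, hq3]
      omega
    have hlist := Cfsg.Agent.S0506.result C.nonabelian S ⟨⟨hexp _ S.isPGroup'⟩⟩
    apply h3
    rcases hlist with ⟨-, -, K, iK, iF, -, ⟨e⟩⟩ | ⟨K, iK, iF, -, ⟨e⟩⟩ | ⟨-, m', -, h⟩ | ⟨-, h⟩
    · rw [Nat.card_congr e.toEquiv]; exact three_dvd_psl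
    · rw [Nat.card_congr e.toEquiv]; exact three_dvd_psl
    · rw [h]
      exact dvd_mul_of_dvd_left (dvd_mul_of_dvd_left (dvd_pow (dvd_pow_self 3 (by omega)) (by norm_num)) _) _
    · rw [h]; norm_num
  · exfalso
    obtain ⟨r, hr⟩ := CharP.exists K
    obtain ⟨n, hrp, hn⟩ := FiniteField.card K r
    have hr2 : r = 2 := by
      have : 2 ∣ r ^ (n : ℕ) := hn ▸ hq ▸ dvd_pow hqe.two_dvd (by norm_num)
      exact ((Nat.prime_dvd_prime_iff_eq Nat.prime_two hrp).1 (Nat.prime_two.dvd_of_dvd_pow this)).symm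
    subst hr2
    obtain ⟨j, -, hj⟩ := (Nat.dvd_prime_pow Nat.prime_two).1 (hn ▸ hq ▸ dvd_pow_self q (by norm_num) : q ∣ 2 ^ (n : ℕ))
    subst hj
    have hj2 : 2 ≤ j := by
      by_contra hlt
      have : 2 ^ j ≤ 2 ^ 1 := Nat.pow_le_pow_right (by norm_num) (by omega)
      omega
    obtain ⟨S⟩ : Nonempty (Sylow 2 (Cfsg.PSU 3 K (2 ^ j))) := inferInstance
    obtain ⟨-, -, -, -, ⟨b, c, hbc⟩, -⟩ := Cfsg.Agent.S1141.result hj2 hq S
    have := hexp ((S : Subgroup _).map e.symm.toMonoidHom) (S.isPGroup'.map _)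
      ⟨_, mem_map_of_mem _ b.2⟩ ⟨_, mem_map_of_mem _ c.2⟩
    exact hbc (Subtype.ext (e.symm.injective
      ((map_mul e.symm _ _).trans ((congrArg Subtype.val this).trans (map_mul e.symm _ _).symm))))
where
  three_dvd_psl {K : Type} [Field K] [Fintype K] :
      3 ∣ Nat.card (Matrix.ProjectiveSpecialLinearGroup (Fin 2) K) := by
    have h := SmallPSL.card_psl (F := K) rfl
    have h3 : 3 ∣ Nat.gcd 2 (Fintype.card K - 1) * Nat.card (Matrix.ProjectiveSpecialLinearGroup (Fin 2) K) := by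
      rw [h]
      generalize Fintype.card K = q
      rcases q with _ | q
      · simp
      rcases (show (q + 1) % 3 = 0 ∨ (q + 1) % 3 = 1 ∨ (q + 1) % 3 = 2 by omega) with e | e | e
      · exact dvd_mul_of_dvd_left (Nat.dvd_of_mod_eq_zero e) _
      · refine dvd_mul_of_dvd_right ((Nat.modEq_iff_dvd' (Nat.one_le_pow _ _ q.succ_pos)).1 ?_) _
        show 1 % 3 = (q + 1) ^ 2 % 3
        rw [Nat.pow_mod, e]
      · refine dvd_mul_of_dvd_right ((Nat.modEq_iff_dvd' (Nat.one_le_pow _ _ q.succ_pos)).1 ?_) _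
        show 1 % 3 = (q + 1) ^ 2 % 3
        rw [Nat.pow_mod, e]
    exact (Nat.Coprime.dvd_of_dvd_mul_left (by
      exact (Nat.Coprime.coprime_dvd_right (Nat.gcd_dvd_left 2 _) (by norm_num))) h3)

/-- The small case. -/
theorem Core.small_types (C : Core P) (hs : Even.Small P) : OddTypes 2 P := by
  classical
  haveI := C.simple
  by_cases hn : ∀ x φ : VV, x ≠ 0 → φ ≠ 0 → Inc P x φ → ¬ (MoreC P x φ ∧ MoreA P x φ)
  · exact C.none_two_sided hs hn
  push Not at hn
  obtain ⟨x, φ, hx, hφ, hI, hC, hA⟩ := hn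
  obtain ⟨t, htP, ht⟩ := hI.2
  obtain ⟨⟨h8, h16⟩, hb⟩ := C.two_sided hs (t := ⟨t, htP⟩) hx hφ hI ht hC hA
  rcases Cfsg.Agent.S0348.result C.quot_noncomm (fun a ha => C.cit hs hb ha) with
    ⟨K, iK, iF, hK, ⟨e⟩⟩ | ⟨K, iK, iF, hK, ⟨e⟩⟩ | ⟨-, m, hm, hcard⟩
  · rcases hK with h9 | ⟨n, hn⟩ | ⟨hq, k, hk⟩
    · obtain ⟨e'⟩ := PSLNine.psl_nine h9
      exact Or.inr (Or.inr (Or.inr (Or.inl ⟨e.trans e'⟩)))
    · exact Or.inl ⟨K, iK, iF, ⟨n, hn⟩, ⟨e⟩⟩
    · set q := Fintype.card K with hqd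
      by_cases h2 : q = 2
      · exact Or.inl ⟨K, iK, iF, ⟨1, h2⟩, ⟨e⟩⟩
      by_cases h5 : q = 5
      · exact Or.inr (Or.inl ⟨K, iK, iF, h5, ⟨e⟩⟩)
      by_cases h7 : q = 7
      · exact Or.inr (Or.inr (Or.inl ⟨K, iK, iF, h7, ⟨e⟩⟩))
      exfalso
      have hodd : Nat.gcd 2 (q - 1) = 2 := by
        rcases hq.eq_two_or_odd with h | h
        · exact absurd h h2
        · exact Nat.gcd_eq_left (by omega)
      have hc := SmallPSL.card_psl (F := K) hqd.symm
      rw [hodd, ← Nat.card_congr e.toEquiv] at hc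
      by_cases h3 : q = 3
      · rw [h3] at hc
        norm_num [-Nat.card_eq_fintype_card] at hc
        omega
      have hk4 : 4 ≤ k := by
        by_contra hlt
        interval_cases k <;> simp at hk <;> rcases hk with hk | hk <;> first | omega | (rw [hk] at hq; norm_num at hq)
      apply h16
      have hpk : (16 : ℕ) ∣ 2 ^ k := dvd_trans (by norm_num) (pow_dvd_pow 2 hk4)
      have key : 2 * 2 ^ k ∣ q * (q ^ 2 - 1) := by
        refine dvd_mul_of_dvd_right ?_ _
        rw [show q ^ 2 - 1 = (q + 1) * (q - 1) by simpa using Nat.sq_sub_sq q 1]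
        have he : 2 ∣ q + 1 ∧ 2 ∣ q - 1 := by
          rcases hq.eq_two_or_odd with h | h
          · exact absurd h h2
          · constructor <;> omega
        rcases hk with hk | hk
        · rw [mul_comm (q + 1), mul_comm 2]
          exact mul_dvd_mul (Dvd.intro 1 (by omega)) he.1
        · rw [mul_comm 2]
          exact mul_dvd_mul (Dvd.intro 1 (by omega)) he.2
      rw [← hc] at key
      exact hpk.trans (Nat.dvd_of_mul_dvd_mul_left (by norm_num) key)
  · exfalso
    apply h16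
    haveI : CharP K 2 := by
      obtain ⟨r, hr⟩ := CharP.exists K
      obtain ⟨n, hrp, hn⟩ := FiniteField.card K r
      have : r = 2 := by
        have h4 : r ∣ 2 ^ 2 := ⟨r ^ ((n : ℕ) - 1), by
          rw [← pow_succ', Nat.sub_add_cancel n.pos, ← hn, hK]; norm_num⟩
        exact (Nat.prime_dvd_prime_iff_eq hrp Nat.prime_two).1 (hrp.dvd_of_dvd_pow h4)
      exact this ▸ hr
    rw [Nat.card_congr e.toEquiv, Schur.LThreeFour.card_psl hK]
    norm_num
  · exfalso
    apply h16
    rw [hcard]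
    refine dvd_mul_of_dvd_left (dvd_mul_of_dvd_left ?_ _) _
    rw [← pow_mul]
    exact dvd_trans (by norm_num) (pow_dvd_pow 2 (show 4 ≤ (2 * m + 1) * 2 by omega))

end lift

end Cfsg.Lib.MitchellThree.Residual
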