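import Cfsg.Agent.MitchellThree.Residual.ElationCase
import Cfsg.Agent.MitchellThree.Residual.Even.Recognition
import Cfsg.Agent.MitchellThree.Residual.Even.Small

/-!
The residual core in characteristic two: generated by transvections over the whole field, or with a small quotient.
-/

set_option autoImplicit false
set_option linter.unusedSectionVars false
set_option linter.style.haveILetI false

namespace Cfsg.Lib.MitchellThree.Residual

open Matrix Subgroup Cfsg.Geo Cfsg.Lib.Classical Cfsg.Lib.Classical.SLThree Cfsg.Lib.Classical.SLThree.Elation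
  Cfsg.Lib.MitchellThree.Elation
open scoped MatrixGroups

universe u

variable {F : Type u} [Field F] [Finite F]

/-- The conclusion in characteristic two. -/
theorem Core.transvection_or_small_two {P : Subgroup (GL (Fin 3) F)} (C : Core P) [Fintype F] [CharP F 2] :
    (P = specialLinear (Fin 3) F ∨ ∃ (Q : GL (Fin 3) F) (m : ℕ), Fintype.card F = m ^ 2 ∧ 2 ≤ m ∧
        Elation.conjG Q P = Cfsg.GU 3 F m ⊓ specialLinear (Fin 3) F) ∨ OddTypes 2 P := by
  classical
  by_cases hs : Even.Small P
  · exact Or.inr (C.small_types hs)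
  left
  unfold Even.Small at hs
  push Not at hs
  obtain ⟨x, φ, c, hx, hφ, h, hc, h0, h1⟩ := hs
  have hirr := irr_of_absIrred C.absIrred
  obtain ⟨k, hL⟩ := Even.exists_lines hirr hx hφ h hc h0 h1
  refine C.elation_shape ?_
  have hT := C.transGen_eq hx hφ h
  rcases Even.recognition hirr hx hφ h hL with ⟨Q, k, e⟩ | ⟨Q, K, m, hm, h3, e⟩
  · exact Or.inl ⟨Q, k, by rwa [hT] at e⟩
  · exact Or.inr ⟨Q, K, m, hm, by omega, by rwa [hT] at e⟩

end Cfsg.Lib.MitchellThree.Residual
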