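import Cfsg.Agent.MitchellThree.Residual.Even.Lines

/-!
Characteristic two: an axis with two centres leads to the special linear group of the subfield.
-/

set_option autoImplicit false
set_option linter.unusedSectionVars false
set_option linter.unusedSimpArgs false
set_option linter.style.haveILetI false
set_option maxHeartbeats 400000

namespace Cfsg.Lib.MitchellThree.Residual.Even

open Matrix Cfsg.Lib.Classical Cfsg.Lib.Classical.LinOne Cfsg.Lib.Classical.SLThree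
  Cfsg.Lib.Classical.SLThree.Elation Cfsg.Lib.Classical.SLThree.Singer Cfsg.Lib.MitchellThree.Elation
open scoped MatrixGroups

universe u

variable {F : Type u} [Field F] {G : Subgroup (GL (Fin 3) F)} {k : Subfield F}

local notation "MM" => Matrix (Fin 3) (Fin 3) F
local notation "GG" => GL (Fin 3) F
local notation "VV" => (Fin 3 → F)

section finite

variable [Finite F]

theorem Lines.conj (hL : Lines G k) (P : GG) : Lines (conjG P G) k := by
  refine ⟨fun x φ hx hφ h c => ?_, fun x φ y ψ h h' => ?_, hL.big⟩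
  · rw [inc_conjG_iff, mulVec_smul]
    exact hL.line _ _ (GL_ne_zero_mulVec _ hx) (GL_ne_zero_vecMul _ hφ) (inc_conjG_iff.1 h) c
  · have := hL.prod _ _ _ _ (inc_conjG_iff.1 h) (inc_conjG_iff.1 h')
    rwa [← dotProduct_mulVec, ← dotProduct_mulVec, mulVec_mulVec, mulVec_mulVec, ← Units.val_mul, mul_inv_cancel,
      Units.val_one, one_mulVec, one_mulVec] at this

theorem pair_centre (hL : Lines G k) {φ x x' : VV} (hφ : φ ≠ 0) (hx : x ≠ 0) (h : Inc G x φ)
    (h' : Inc G x' φ) (hne : ∀ a : F, x' ≠ a • x) {y ψ : VV} (hψ : ψ ≠ 0) (hy : Inc G y ψ)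
    (ha : φ ⬝ᵥ y ≠ 0) :
    ∃ p, p ≠ 0 ∧ ψ ⬝ᵥ p = 0 ∧ Inc G p φ ∧ Inc G p ((φ ⬝ᵥ y) • ψ) := by
  suffices ∃ p, p ≠ 0 ∧ ψ ⬝ᵥ p = 0 ∧ Inc G p φ by
    obtain ⟨p, hp, hp0, hpφ⟩ := this
    exact ⟨p, hp, hp0, hpφ, Inc.move (Inc.comm hpφ hy hp0) ha⟩
  by_cases hb : ψ ⬝ᵥ x = 0
  · exact ⟨x, hx, hb, h⟩
  · have hs := hL.split (Opp.mk h hy ha hb) h'
    refine ⟨_, sub_ne_zero.2 (hne _), ?_, hs⟩
    rw [dotProduct_sub, dotProduct_smul, smul_eq_mul, div_mul_cancel₀ _ hb, sub_self]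

theorem many_dual [Fintype F] (hL : Lines G k) (hirr : Irr G) (hM : Many G) : Many (G.map dualHom) := by
  obtain ⟨φ, x, x', hφ, hx, h, h', hne⟩ := hM
  obtain ⟨y, ψ, -, hψ, hy, ha⟩ := exists_centre hirr hx hφ h hφ
  obtain ⟨p, hp, -, h1, h3⟩ := pair_centre hL hφ hx h h' hne hψ hy ha
  refine ⟨p, φ, _, hp, hφ, inc_dual h1, inc_dual h3, fun a e => ?_⟩
  have e2 := congrArg (fun v => v ⬝ᵥ y) e
  have ha0 : a = 0 := by simpa [smul_dotProduct, hy.1, ha, eq_comm] using e2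
  rw [ha0, zero_smul] at e
  exact (smul_ne_zero ha hψ) e

theorem many_pre [Fintype F] (hL : Lines G k) (hirr : Irr G) (hM : Many G) : ∃ P : GG, Pre (conjG P G) := by
  obtain ⟨φ, x, x', hφ, hx, h, h', hne⟩ := hM
  obtain ⟨y, ψ, -, hψ, hy, hya⟩ := exists_centre hirr hx hφ h hφ
  obtain ⟨p, hp, hψp, hpφ, hpψ⟩ := pair_centre hL hφ hx h h' hne hψ hy hya
  have hψφ : ∀ a : F, ψ ≠ a • φ := fun a e => by
    have := hy.1
    rw [e, smul_dotProduct, smul_eq_mul] at this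
    exact hψ (by rw [e, (mul_eq_zero.1 this).resolve_right hya, zero_smul])
  have hline : ∀ z, φ ⬝ᵥ z = 0 → ψ ⬝ᵥ z = 0 → ∃ a : F, z = a • p := fun z =>
    kernel_line hφ hψφ hp hpφ.1 hψp
  obtain ⟨y', ψ', hψ', hy', hψ'p, hy'a⟩ : ∃ y' ψ', ψ' ≠ 0 ∧ Inc G y' ψ' ∧ ψ' ⬝ᵥ p ≠ 0 ∧ φ ⬝ᵥ y' ≠ 0 := by
    obtain ⟨y', ψ', hy'0, hψ', hy', hψ'p⟩ := exists_axis hirr hx hφ h hp
    by_cases h0 : φ ⬝ᵥ y' = 0
    swap
    · exact ⟨y', ψ', hψ', hy', hψ'p, h0⟩
    have hψy' : ψ ⬝ᵥ y' ≠ 0 := fun e => by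
      obtain ⟨a, rfl⟩ := hline y' h0 e
      have h1 := hy'.1
      rw [dotProduct_smul, smul_eq_mul] at h1
      exact hy'0 (by rw [(mul_eq_zero.1 h1).resolve_right hψ'p, zero_smul])
    obtain ⟨g, hg, hgv⟩ := hy.2
    refine ⟨_, _, GL_ne_zero_vecMul _ hψ', hy'.conj hg, ?_, ?_⟩
    · have hgp : (g : MM) *ᵥ p = p := by rw [hgv, one_mulVec', hψp, zero_smul, add_zero]
      rw [← hgp, dot_conj]
      exact hψ'p
    · rw [hgv, one_mulVec', dotProduct_add, h0, zero_add, dotProduct_smul, smul_eq_mul]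
      exact mul_ne_zero hψy' hya
  obtain ⟨p', hp', hψp', hp'φ, hp'ψ⟩ := pair_centre hL hφ hx h h' hne hψ' hy' hy'a
  have hψp0 : ψ ⬝ᵥ p' ≠ 0 := fun e => by
    obtain ⟨a, rfl⟩ := hline p' hp'φ.1 e
    rw [dotProduct_smul, smul_eq_mul] at hψp'
    exact hp' (by rw [(mul_eq_zero.1 hψp').resolve_right hψ'p, zero_smul])
  obtain ⟨e3, he3, h3a, h3b⟩ := exists_pair ψ ψ'
  have hφe3 : φ ⬝ᵥ e3 ≠ 0 := fun e => by
    obtain ⟨a, rfl⟩ := hline e3 e h3a
    rw [dotProduct_smul, smul_eq_mul] at h3b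
    exact he3 (by rw [(mul_eq_zero.1 h3b).resolve_right hψ'p, zero_smul])
  set e : Fin 3 → VV := ![p', p, e3] with he
  set f : Fin 3 → VV := ![(ψ ⬝ᵥ p')⁻¹ • ψ, (ψ' ⬝ᵥ p)⁻¹ • ψ', (φ ⬝ᵥ e3)⁻¹ • φ] with hf
  have hdual : ∀ i j, f i ⬝ᵥ e j = if i = j then 1 else 0 := by
    intro i j
    fin_cases i <;> fin_cases j <;>
      simp [he, hf, hψp0, hψp, hψp', h3a, h3b, hψ'p, hφe3, hpφ.1, hp'φ.1]
  obtain ⟨P, hP, hP'⟩ := exists_frame_matrix hdual
  refine ⟨P, ?_⟩
  -- transport of elations with a coordinate centre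
  have tr : ∀ (i j : Fin 3) (a : F), a ≠ 0 → Inc G (e i) (a • f j) → Inc (conjG P G) (a • ev i) (ev j) := by
    intro i j a ha hI
    have h1 := inc_conjG (P := P) (Inc.smul_right hI ha)
    convert h1 using 1
    · funext l
      rw [hP, dotProduct_smul, hdual]
      simp [ev, Pi.single_apply]
    · funext l
      rw [hP', hdual]
      simp [ev, Pi.single_apply, eq_comm]
  have trz : ∀ (z : VV) (j : Fin 3) (a : F), a ≠ 0 → Inc G z (a • f j) → f 2 ⬝ᵥ z ≠ 0 →
      ∃ z', Inc (conjG P G) z' (ev j) ∧ z' 2 ≠ 0 := by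
    intro z j a ha hI hz
    refine ⟨(P : MM) *ᵥ (a • z), ?_, by rw [hP, dotProduct_smul]; exact mul_ne_zero ha hz⟩
    have h1 := inc_conjG (P := P) (Inc.smul_right hI ha)
    convert h1 using 1
    funext l
    rw [hP', hdual]
    simp [ev, Pi.single_apply, eq_comm]
  have hf0 : f 0 = (ψ ⬝ᵥ p')⁻¹ • ψ := rfl
  have hf1 : f 1 = (ψ' ⬝ᵥ p)⁻¹ • ψ' := rfl
  have hf2 : f 2 = (φ ⬝ᵥ e3)⁻¹ • φ := rfl
  have e0 : φ = (φ ⬝ᵥ e3) • f 2 := by rw [hf2, smul_inv_smul₀ hφe3]
  have e1 : ψ = (ψ ⬝ᵥ p') • f 0 := by rw [hf0, smul_inv_smul₀ hψp0]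
  have e2 : ψ' = (ψ' ⬝ᵥ p) • f 1 := by rw [hf1, smul_inv_smul₀ hψ'p]
  have h02 := tr 0 2 _ hφe3 (e0 ▸ hp'φ : Inc G p' ((φ ⬝ᵥ e3) • f 2))
  have h12 := tr 1 2 _ hφe3 (e0 ▸ hpφ : Inc G p ((φ ⬝ᵥ e3) • f 2))
  have h01 := tr 0 1 _ (mul_ne_zero hy'a hψ'p) (by rw [← smul_smul, ← e2]; exact hp'ψ)
  have h10 := tr 1 0 _ (mul_ne_zero hya hψp0) (by rw [← smul_smul, ← e1]; exact hpψ)
  obtain ⟨z, hz, hz2⟩ := trz y 0 _ hψp0 (by rw [← e1]; exact hy)
    (by rw [hf2, smul_dotProduct]; exact mul_ne_zero (inv_ne_zero hφe3) hya)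
  obtain ⟨z', hz', hz'2⟩ := trz y' 1 _ hψ'p (by rw [← e2]; exact hy')
    (by rw [hf2, smul_dotProduct]; exact mul_ne_zero (inv_ne_zero hφe3) hy'a)
  have hsplit : ∀ {i j : Fin 3} {c d : F} {w : VV}, i ≠ j → c ≠ 0 → d ≠ 0 → Inc (conjG P G) (c • ev j) (ev i) →
      Inc (conjG P G) (d • ev i) (ev j) → Inc (conjG P G) w (ev i) →
      Inc (conjG P G) (w - w j • ev j) (ev i) := by
    intro i j c d w hij hc hd hA hB hw
    have := (hL.conj P).split (Opp.mk hA hB (by simpa [ev] using hd) (by simpa [ev] using hc)) hw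
    convert this using 2
    simp [ev, smul_smul, hc]
  have h20 : Inc (conjG P G) ((z 2) • ev 2) (ev 0) := by
    convert hsplit (by decide : (0 : Fin 3) ≠ 1) (mul_ne_zero hya hψp0) (mul_ne_zero hy'a hψ'p) h10 h01 hz using 1
    have hz0 : z 0 = 0 := by simpa [ev] using hz.1
    funext l; fin_cases l <;> simp [ev, hz0]
  have h21 : Inc (conjG P G) ((z' 2) • ev 2) (ev 1) := by
    convert hsplit (by decide : (1 : Fin 3) ≠ 0) (mul_ne_zero hy'a hψ'p) (mul_ne_zero hya hψp0) h01 h10 hz' using 1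
    have hz0 : z' 1 = 0 := by simpa [ev] using hz'.1
    funext l; fin_cases l <;> simp [ev, hz0]
  intro i j hij
  fin_cases i <;> fin_cases j
  · exact absurd rfl hij
  · exact ⟨_, mul_ne_zero hy'a hψ'p, h01⟩
  · exact ⟨_, hφe3, h02⟩
  · exact ⟨_, mul_ne_zero hya hψp0, h10⟩
  · exact absurd rfl hij
  · exact ⟨_, hφe3, h12⟩
  · exact ⟨_, hz2, h20⟩
  · exact ⟨_, hz'2, h21⟩
  · exact absurd rfl hij

end finite

/-- Rationality in the standard frame. -/
theorem std_rat [CharP F 2] (hL : Lines G k) (hS : Std G k) {y χ : VV} (h : Inc G y χ) (i j : Fin 3) : y i * χ j ∈ k := by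
  have e : ∀ {i j : Fin 3}, i ≠ j → Inc G (ev i) (ev j) := fun {i j} hij => by
    have := (hS i j hij 1).2 k.one_mem
    rwa [one_smul] at this
  have off : ∀ {z θ : VV}, Inc G z θ → ∀ i j : Fin 3, i ≠ j → z i * θ j ∈ k := by
    intro z θ hz i j hij
    have := hL.prod z θ (ev j) (ev i) hz (e hij.symm)
    rw [mul_comm] at this
    simpa [ev] using this
  rcases ne_or_eq i j with hij | rfl
  · exact off h i j hij
  have two : ∀ a b : Fin 3, a ≠ b → y a * χ a - y b * χ b ∈ k := by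
    intro a b hab
    obtain ⟨g, hg, hgv⟩ := (e hab).2
    have hgi : ((g⁻¹ : GG) : MM) = 1 + vecMulVec (ev a) (-(ev b)) := by
      rw [Matrix.coe_units_inv, hgv]
      refine Matrix.inv_eq_right_inv ?_
      rw [one_mul_one, (e hab).1, zero_smul, zero_vecMulVec, add_zero, vecMulVec_neg]
      abel
    have h' := off (h.conj hg) a b hab
    rw [hgi, hgv, one_mulVec', vecMul_one'] at h'
    simp [ev, hab, hab.symm] at h'
    have := k.neg_mem (k.sub_mem (k.add_mem h' (off h b a hab.symm)) (off h a b hab))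
    convert this using 1
    ring
  obtain ⟨a, hai⟩ : ∃ a : Fin 3, a ≠ i := ⟨i + 1, by revert i; decide⟩
  obtain ⟨l, hli, hla, hall⟩ := fin_third i a hai.symm
  have hsum : y i * χ i + y a * χ a + y l * χ l = 0 := by
    have := h.1
    rw [dotProduct, ← Finset.sum_subset (Finset.subset_univ ({i, a, l} : Finset (Fin 3)))
      (fun x _ hx => absurd (hall x) (by simpa using hx)), Finset.sum_insert (by simp [hai.symm, hli.symm]),
      Finset.sum_pair hla.symm] at this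
    linear_combination this
  have h3 : (3 : F) * (y i * χ i) ∈ k := by
    have := k.add_mem (two i a hai.symm) (two i l hli.symm)
    convert this using 1
    linear_combination hsum
  rwa [show (3 : F) = 1 by linear_combination CharTwo.two_eq_zero (R := F), one_mul] at h3

theorem std_transGen_eq [Fintype F] [CharP F 2] (hL : Lines G k) (hS : Std G k) :
    transGen G = (Cfsg.Geo.specialLinear (Fin 3) k).map (subMap k) := by
  refine le_antisymm ((Subgroup.closure_le _).2 ?_) ?_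
  · rintro g ⟨hg, x, φ, h0, hv⟩
    exact rat_lift k h0 (fun i j => std_rat hL hS ⟨h0, g, hg, hv⟩ i j) hv
  · rw [Subgroup.map_le_iff_le_comap]
    refine specialLinear_le fun i j hij c => ?_
    obtain ⟨g, hg, hgv⟩ := (inc_transGen.2 ((hS i j hij (c : F)).2 c.2)).2
    have hd : (1 : k) + (Pi.single j 1 : Fin 3 → k) ⬝ᵥ Pi.single i c ≠ 0 := by
      simp [hij, Ne.symm hij]
    refine ⟨mkGL _ _ hd, ?_, mkGL_val _ _ hd⟩
    rw [Subgroup.mem_comap]
    convert hg using 1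
    refine Units.ext ?_
    rw [subMap_val, mkGL_val, map_one_vecMulVec, hgv]
    congr 2
    · funext m; simp [ev, Pi.single_apply]; split <;> simp
    · funext m; simp [ev, Pi.single_apply]; split <;> simp

/-- With two centres on one axis the transvections generate the special linear group of a subfield. -/
theorem many_linear [Fintype F] [CharP F 2] (hL : Lines G k) (hirr : Irr G) (hM : Many G) :
    ∃ (P : GG) (k : Subfield F), conjG P (transGen G) = (Cfsg.Geo.specialLinear (Fin 3) k).map (subMap k) := by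
  obtain ⟨P, hP⟩ := many_pre hL hirr hM
  obtain ⟨Q, k', hk⟩ := hP.exists_std
  obtain rfl : k' = k := SetLike.ext fun c => by
    have h := ((hL.conj P).conj Q).line (ev 0) (ev 1) (fun e => one_ne_zero (α := F) (by simpa [ev] using congrFun e 0))
      (fun e => one_ne_zero (α := F) (by simpa [ev] using congrFun e 1))
      (by have := (hk 0 1 (by decide) 1).2 k'.one_mem; rwa [one_smul] at this) c
    exact (hk 0 1 (by decide) c).symm.trans h
  refine ⟨Q * P, k', ?_⟩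
  rw [← transGen_conjG, ← std_transGen_eq ((hL.conj P).conj Q) hk]
  congr 1
  rw [conjG, conjG, conjG, Subgroup.map_map]
  congr 1
  ext g
  simp [mul_assoc]

end Cfsg.Lib.MitchellThree.Residual.Even
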